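import Groth.Agent.Sga3C.SubGrp
import Mathlib.CategoryTheory.Limits.Shapes.Pullback.IsPullback.Basic

/-!
# Preimages of subgroups under homomorphisms of group objects
-/

set_option autoImplicit false
set_option linter.unusedSectionVars false

universe u v

open CategoryTheory MonoidalCategory CartesianMonoidalCategory MonObj GrpObj Limits

namespace K397.Pre

variable {C : Type u} [Category.{v} C] [CartesianMonoidalCategory C] [HasPullbacks C]

/-- The preimage of a subgroup `i : N ⟶ Q` under a homomorphism `q : G ⟶ Q`. -/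
theorem exists_preimage {G Q N : C} [GrpObj G] [GrpObj Q] [GrpObj N] (q : G ⟶ Q) [IsMonHom q]
    (i : N ⟶ Q) [IsMonHom i] [Mono i] :
    ∃ (E : C) (_ : GrpObj E) (e : E ⟶ G) (p : E ⟶ N), IsMonHom e ∧ IsMonHom p ∧ IsPullback e p q i := by
  have hp : IsPullback (pullback.fst q i) (pullback.snd q i) q i := IsPullback.of_hasPullback q i
  obtain ⟨inst, hm⟩ := Groth.Agent.Sga3C.SubGrp.exists_grpObj_of_mono (pullback.fst q i)
    (by
      refine ⟨pullback.lift
        ((pullback.fst q i ⊗ₘ pullback.fst q i) ≫ μ[G]) ((pullback.snd q i ⊗ₘ pullback.snd q i) ≫ μ[N])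
        (by
          rw [Category.assoc, Category.assoc, IsMonHom.mul_hom, IsMonHom.mul_hom,
            tensorHom_comp_tensorHom_assoc, tensorHom_comp_tensorHom_assoc, hp.w]),
        pullback.lift_fst _ _ _⟩)
    (by
      exact ⟨pullback.lift η[G] η[N] (by rw [IsMonHom.one_hom, IsMonHom.one_hom]),
        pullback.lift_fst _ _ _⟩)
    (by
      refine ⟨pullback.lift (pullback.fst q i ≫ ι[G]) (pullback.snd q i ≫ ι[N]) ?_,
        pullback.lift_fst _ _ _⟩
      rw [Category.assoc, Category.assoc, GrpObj.inv_hom, GrpObj.inv_hom, ← Category.assoc,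
        hp.w, Category.assoc])
  refine ⟨pullback q i, inst, pullback.fst q i, pullback.snd q i, hm, ?_, hp⟩
  have : IsMonHom (pullback.snd q i ≫ i) := by
    rw [← hp.w]
    infer_instance
  exact Groth.Agent.Sga3C.SubGrp.isMonHom_of_comp_mono (pullback.snd q i) i

/-- `p : E ⟶ N` is a homomorphism when `E` is the preimage of the subgroup `N`. -/
theorem isMonHom_of_isPullback {G Q N E : C} [GrpObj G] [GrpObj Q] [GrpObj N] [GrpObj E] {q : G ⟶ Q} [IsMonHom q]
    {i : N ⟶ Q} [IsMonHom i] [Mono i] {e : E ⟶ G} {p : E ⟶ N} [IsMonHom e] (h : IsPullback e p q i) :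
    IsMonHom p := by
  have : IsMonHom (p ≫ i) := by
    rw [← h.w]
    infer_instance
  exact Groth.Agent.Sga3C.SubGrp.isMonHom_of_comp_mono p i

/-- The kernel of `q` is the kernel of the restriction `p : E ⟶ N` of `q` to the preimage of `N`. -/
theorem isKernel_preimage {G Q N E K : C} [GrpObj G] [GrpObj Q] [GrpObj N] {q : G ⟶ Q}
    {i : N ⟶ Q} [IsMonHom i] {e : E ⟶ G} {p : E ⟶ N} (h : IsPullback e p q i)
    {n : K ⟶ G} (hn : IsPullback n (toUnit K) q η[Q]) :
    ∃ n' : K ⟶ E, n' ≫ e = n ∧ IsPullback n' (toUnit K) p η[N] := by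
  have h1 : n ≫ q = (toUnit K ≫ η[N]) ≫ i := by
    rw [Category.assoc, IsMonHom.one_hom, hn.w]
  refine ⟨h.lift n (toUnit K ≫ η[N]) h1, h.lift_fst _ _ _, ?_⟩
  refine IsPullback.of_right (h₁₂ := e) (h₂₂ := i) (v₁₃ := q) ?_ (h.lift_snd _ _ _) h
  rw [h.lift_fst, IsMonHom.one_hom]
  exact hn

end K397.Pre
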