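import Groth.Prelude.Def_AlgGrp
import Groth.Agent.AutSch.K936.Rigid
import Groth.Agent.S3567
import Groth.Agent.Pi1A.SteinEtale
import Groth.Agent.Books.AntiAffine
import Groth.Agent.Books.BorelOrb
import Groth.Agent.Books.AlgPtsGrp
import Groth.Agent.Books.AlgPtsIrred

/-!
# Blanchard's lemma

`f : X ⟶ Y` proper with `O_Y = f_* O_X`, `k` algebraically closed, `G` connected of finite type acting on `X`: the
action descends uniquely to `Y`.  No separatedness is needed.

* `surjective`, `epi`, `exists_desc`: generalities on `T ◁ f`.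
* `existsUnique_action`: the result.
-/

set_option autoImplicit false
universe u

open CategoryTheory MonoidalCategory CartesianMonoidalCategory MonObj GrpObj AlgebraicGeometry
open Groth.Agent.Books.BorelOrb Groth.Agent.Books.AlgPts

namespace K397.Blanchard

theorem surjective_of_isIso_app {A B : Scheme.{u}} (f : A ⟶ B) (hcl : IsClosed (Set.range f))
    (hf : ∀ U : B.Opens, IsIso (f.app U)) : Surjective f := by
  refine ⟨fun y => ?_⟩
  by_contra hy
  let U : B.Opens := ⟨(Set.range f)ᶜ, hcl.isOpen_compl⟩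
  have hyU : y ∈ U := hy
  have hne : Nonempty U := ⟨⟨y, hyU⟩⟩
  have h1 : Nontrivial Γ(B, U) := inferInstance
  have h2 : f ⁻¹ᵁ U = ⊥ := by
    ext x
    simp only [TopologicalSpace.Opens.coe_bot, Set.mem_empty_iff_false, iff_false]
    intro hx
    exact hx ⟨x, rfl⟩
  have h3 : Subsingleton Γ(A, f ⁻¹ᵁ U) := by
    rw [h2]
    exact CommRingCat.subsingleton_of_isTerminal A.sheaf.isTerminalOfEmpty
  have := hf U
  have h4 : Function.Injective (f.app U).hom := (ConcreteCategory.bijective_of_isIso (f.app U)).1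
  exact not_subsingleton Γ(B, U) h4.subsingleton

variable {k : Type u} [Field k] {X Y : Over (Spec (CommRingCat.of k))} (f : X ⟶ Y) [IsProper f.left]
  (hf : ∀ U : Y.left.Opens, IsIso (f.left.app U)) (T : Over (Spec (CommRingCat.of k)))

instance isProper_whisker : IsProper (T ◁ f).left :=
  Groth.Agent.Books.AntiAffine.whiskerLeft_left_mem @IsProper f T inferInstance

include hf

theorem surjective_left : Surjective f.left := by
  refine surjective_of_isIso_app f.left ?_ hf
  rw [← Set.image_univ]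
  exact f.left.isClosedMap _ isClosed_univ

theorem isIso_app_whisker (U : (T ⊗ Y).left.Opens) : IsIso ((T ◁ f).left.app U) := by
  have sq : IsPullback (snd T X).left (T ◁ f).left f.left (snd T Y).left :=
    ((Groth.Agent.Books.AntiAffine.isPullback_whiskerLeft f T).map (Over.forget _)).flip
  have hfl : Flat (snd T Y).left := by
    have : (snd T Y).left = Limits.pullback.snd T.hom Y.hom := rfl
    rw [this]
    infer_instance
  exact Groth.Agent.Pi1A.SteinEtale.isIso_app_of_flat sq hf U

theorem surjective_whisker : Surjective (T ◁ f).left := by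
  have := surjective_left f hf
  exact Groth.Agent.Books.AntiAffine.whiskerLeft_left_mem @Surjective f T inferInstance

theorem isIso_c : IsIso (T ◁ f).left.c := by
  rw [NatTrans.isIso_iff_isIso_app]
  intro U
  exact isIso_app_whisker f hf T U.unop

theorem isQuotientMap : Topology.IsQuotientMap (T ◁ f).left.base := by
  have := surjective_whisker f hf T
  exact (T ◁ f).left.isClosedMap.isQuotientMap (T ◁ f).left.continuous (T ◁ f).left.surjective

theorem epi_whisker : Epi (T ◁ f) := by
  have := surjective_whisker f hf T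
  have := isIso_c f hf T
  have : Epi (T ◁ f).left := by
    refine ⟨fun {W} v₁ v₂ e => ?_⟩
    exact (Groth.Agent.S3567.result (T ◁ f).left (isQuotientMap f hf T) W).1 v₁ v₂ e
  exact (Over.forget _).epi_of_epi_map (f := T ◁ f) this

/-- Descent of a morphism contracting the fibres of `T ◁ f`. -/
theorem exists_desc {Z : Over (Spec (CommRingCat.of k))} (h : T ⊗ X ⟶ Z)
    (hc : ∀ a b : (T ⊗ X).left, (T ◁ f).left a = (T ◁ f).left b → h.left a = h.left b) :
    ∃ ψ : T ⊗ Y ⟶ Z, T ◁ f ≫ ψ = h := by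
  have := surjective_whisker f hf T
  have := isIso_c f hf T
  obtain ⟨v, hv⟩ := (Groth.Agent.S3567.result (T ◁ f).left (isQuotientMap f hf T) Z.left).2 h.left hc
  have : Epi (T ◁ f).left := by
    refine ⟨fun {W} v₁ v₂ e => ?_⟩
    exact (Groth.Agent.S3567.result (T ◁ f).left (isQuotientMap f hf T) W).1 v₁ v₂ e
  refine ⟨Over.homMk v ?_, ?_⟩
  · rw [← cancel_epi (T ◁ f).left, ← Category.assoc, hv, Over.w, Over.w]
  · ext1
    exact hv

/-- An action descends as soon as `a.act ≫ f` contracts the fibres of `G ◁ f`. -/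
theorem existsUnique_of_contracts (G : Over (Spec (CommRingCat.of k))) [GrpObj G] (a : AlgGrp.Action G X)
    (hc : ∀ p q : (G ⊗ X).left, (G ◁ f).left p = (G ◁ f).left q → (a.act ≫ f).left p = (a.act ≫ f).left q) :
    ∃! b : AlgGrp.Action G Y, (G ◁ f) ≫ b.act = a.act ≫ f := by
  obtain ⟨ψ, hψ⟩ := exists_desc f hf G (a.act ≫ f) hc
  have e1 : Epi (G ◁ f) := epi_whisker f hf G
  have e2 : Epi ((G ⊗ G) ◁ f) := epi_whisker f hf (G ⊗ G)
  have e3 : Epi (𝟙_ (Over (Spec (CommRingCat.of k))) ◁ f) := epi_whisker f hf (𝟙_ _)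
  refine ⟨⟨ψ, ?_, ?_⟩, hψ, ?_⟩
  · rw [← cancel_epi (𝟙_ (Over (Spec (CommRingCat.of k))) ◁ f), ← Category.assoc, whisker_exchange, Category.assoc, hψ,
      ← Category.assoc, a.one_act]
    exact (leftUnitor_naturality f).symm
  · rw [← cancel_epi ((G ⊗ G) ◁ f), ← Category.assoc, whisker_exchange, Category.assoc, hψ, ← Category.assoc,
      a.mul_act]
    have h1 : (G ⊗ G) ◁ f ≫ (α_ G G Y).hom = (α_ G G X).hom ≫ G ◁ (G ◁ f) := by
      simp
    have h2 : G ◁ G ◁ f ≫ G ◁ ψ = G ◁ a.act ≫ G ◁ f := by rw [← whiskerLeft_comp, hψ, whiskerLeft_comp]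
    have h3 : G ◁ G ◁ f ≫ G ◁ ψ ≫ ψ = G ◁ a.act ≫ a.act ≫ f := by
      rw [← Category.assoc, h2, Category.assoc, hψ]
    rw [← Category.assoc ((G ⊗ G) ◁ f), h1]
    simp only [Category.assoc, h3]
  · intro b hb
    have : b.act = ψ := by rw [← cancel_epi (G ◁ f), hb, hψ]
    cases b
    congr

omit hf

variable [IsAlgClosed k]

theorem exists_common_point {G : Over (Spec (CommRingCat.of k))} [LocallyOfFiniteType G.hom] [IrreducibleSpace G.left]
    {U V : Set G.left} (hU : IsOpen U) (hV : IsOpen V) (hUn : U.Nonempty) (hVn : V.Nonempty) :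
    ∃ g : 𝟙_ (Over (Spec (CommRingCat.of k))) ⟶ G, pt g ∈ U ∧ pt g ∈ V := by
  have hne : (U ∩ V).Nonempty := by
    have := (PreirreducibleSpace.isPreirreducible_univ (X := G.left)) U V hU hV (by simpa using hUn) (by simpa using hVn)
    simpa using this
  obtain ⟨g, hg⟩ := exists_pt_mem hne (hU.inter hV).isLocallyClosed
  exact ⟨g, hg⟩

/-- **Blanchard's lemma** over an algebraically closed field. -/
theorem existsUnique_action (G : Over (Spec (CommRingCat.of k))) [GrpObj G] [LocallyOfFiniteType G.hom]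
    [QuasiCompact G.hom] [ConnectedSpace G.left] [LocallyOfFiniteType X.hom] [LocallyOfFiniteType Y.hom]
    (hf : ∀ U : Y.left.Opens, IsIso (f.left.app U)) (a : AlgGrp.Action G X) :
    ∃! b : AlgGrp.Action G Y, (G ◁ f) ≫ b.act = a.act ≫ f := by
  have hGi : IrreducibleSpace G.left := Groth.Agent.Books.AlgPtsIrred.irreducibleSpace_of_connectedSpace G
  have hfs := surjective_left f hf
  have hFs := surjective_whisker f hf G
  let F := (G ◁ f).left
  let h := (a.act ≫ f).left
  let E : Set (G ⊗ Y).left := {z | ∀ p q : (G ⊗ X).left, F p = z → F q = z → h p = h q}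
  have hE : IsOpen E :=
    K936.Rigid.isOpen_contracted (G ◁ f).left (G ◁ f).left.isClosedMap (isIso_app_whisker f hf G) (a.act ≫ f).left
  have hGX : LocallyOfFiniteType (G ⊗ X).hom := by
    have : (G ⊗ X).hom = Limits.pullback.fst G.hom X.hom ≫ G.hom := rfl
    rw [this]; infer_instance
  have hGY : LocallyOfFiniteType (G ⊗ Y).hom := by
    have : (G ⊗ Y).hom = Limits.pullback.fst G.hom Y.hom ≫ G.hom := rfl
    rw [this]; infer_instance
  have hJX : JacobsonSpace (G ⊗ X).left := LocallyOfFiniteType.jacobsonSpace (G ⊗ X).hom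
  have hJY : JacobsonSpace (G ⊗ Y).left := LocallyOfFiniteType.jacobsonSpace (G ⊗ Y).hom
  -- the criterion on rational points
  have key : ∀ (g : 𝟙_ (Over (Spec (CommRingCat.of k))) ⟶ G) (y : 𝟙_ (Over (Spec (CommRingCat.of k))) ⟶ Y),
      pt (lift g y) ∈ E ↔ ∀ x x' : 𝟙_ (Over (Spec (CommRingCat.of k))) ⟶ X, x ≫ f = y → x' ≫ f = y →
        sm a g x ≫ f = sm a g x' ≫ f := by
    intro g y
    constructor
    · intro hz x x' hx hx'
      apply pt_injective
      have h1 : F (pt (lift g x)) = pt (lift g y) := by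
        rw [← pt_comp]
        congr 1
        rw [← hx]
        simp
      have h2 : F (pt (lift g x')) = pt (lift g y) := by
        rw [← pt_comp]
        congr 1
        rw [← hx']
        simp
      have h3 := hz _ _ h1 h2
      have h4 : ∀ x : 𝟙_ (Over (Spec (CommRingCat.of k))) ⟶ X, h (pt (lift g x)) = pt (sm a g x ≫ f) := by
        intro x
        rw [← pt_comp, sm, Category.assoc]
      rw [h4, h4] at h3
      exact h3
    · intro hxy
      -- the fibre is a closed subset
      have hcl : IsClosed (F ⁻¹' {pt (lift g y)}) := (isClosed_pt _).preimage F.continuous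
      obtain ⟨p₀, hp₀⟩ := hFs.surj (pt (lift g y))
      obtain ⟨z₀, hz₀⟩ := exists_pt_mem (U := F ⁻¹' {pt (lift g y)}) ⟨p₀, hp₀⟩ hcl.isLocallyClosed
      -- a point of the fibre is `(g, x)`
      have hpt : ∀ z : 𝟙_ (Over (Spec (CommRingCat.of k))) ⟶ G ⊗ X, F (pt z) = pt (lift g y) →
          ∃ x, z = lift g x ∧ x ≫ f = y := by
        intro z hz
        rw [← pt_comp] at hz
        have h1 := pt_injective hz
        refine ⟨z ≫ snd _ _, ?_, ?_⟩
        · apply CartesianMonoidalCategory.hom_ext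
          · rw [lift_fst]
            have := congr($h1 ≫ fst _ _)
            simpa using this
          · rw [lift_snd]
        · have := congr($h1 ≫ snd _ _)
          simpa using this
      have hcl2 : IsClosed (h ⁻¹' {h (pt z₀)}) := by
        have : IsClosed {h (pt z₀)} := by
          rw [← pt_comp]
          exact isClosed_pt _
        exact this.preimage h.continuous
      have hsub : F ⁻¹' {pt (lift g y)} ⊆ h ⁻¹' {h (pt z₀)} := by
        refine subset_of_forall_pt hcl.isLocallyClosed hcl2 fun z hz => ?_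
        obtain ⟨x, rfl, hx⟩ := hpt z hz
        obtain ⟨x₀, hx₀, hx₀'⟩ := hpt z₀ hz₀
        rw [hx₀]
        change h (pt (lift g x)) = h (pt (lift g x₀))
        rw [← pt_comp, ← pt_comp, ← Category.assoc, ← Category.assoc]
        congr 1
        exact hxy x x₀ hx hx₀'
      intro p q hp hq
      have h1 := hsub hp
      have h2 := hsub hq
      exact h1.trans h2.symm
  have hE1 : ∀ y : 𝟙_ (Over (Spec (CommRingCat.of k))) ⟶ Y, pt (lift 1 y) ∈ E := by
    intro y
    rw [key]
    intro x x' hx hx'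
    rw [one_sm, one_sm, hx, hx']
  have hEall : ∀ (g : 𝟙_ (Over (Spec (CommRingCat.of k))) ⟶ G) (y : 𝟙_ (Over (Spec (CommRingCat.of k))) ⟶ Y),
      pt (lift g y) ∈ E := by
    intro g₀ y
    obtain ⟨x, hx⟩ := exists_comp_eq_of_pt_mem_range f y (by
      rw [Set.range_eq_univ.mpr f.left.surjective]; trivial)
    let n₁ : G ⟶ G ⊗ Y := lift (𝟙 G)⁻¹ (sm a (𝟙 G * (toUnit G ≫ g₀)) (toUnit G ≫ x) ≫ f)
    let n₂ : G ⟶ G ⊗ Y := lift (𝟙 G * (toUnit G ≫ g₀)) (toUnit G ≫ y)
    have hn₁ : ∀ g : 𝟙_ (Over (Spec (CommRingCat.of k))) ⟶ G, g ≫ n₁ = lift g⁻¹ (sm a (g * g₀) x ≫ f) := by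
      intro g
      rw [comp_lift, GrpObj.comp_inv, Category.comp_id, ← Category.assoc, comp_sm, comp_mul, Category.comp_id,
        ← Category.assoc, ← Category.assoc, toUnit_unique (g ≫ toUnit G) (𝟙 _), Category.id_comp, Category.id_comp]
    have hn₂ : ∀ g : 𝟙_ (Over (Spec (CommRingCat.of k))) ⟶ G, g ≫ n₂ = lift (g * g₀) y := by
      intro g
      rw [comp_lift, comp_mul, Category.comp_id, ← Category.assoc, ← Category.assoc,
        toUnit_unique (g ≫ toUnit G) (𝟙 _), Category.id_comp, Category.id_comp]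
    obtain ⟨g', hg1, hg2⟩ := exists_common_point (G := G) (hE.preimage n₁.left.continuous)
      (hE.preimage n₂.left.continuous)
      ⟨pt 1, by
        change n₁.left (pt 1) ∈ E
        rw [← pt_comp, hn₁, inv_one]
        exact hE1 _⟩
      ⟨pt g₀⁻¹, by
        change n₂.left (pt g₀⁻¹) ∈ E
        rw [← pt_comp, hn₂, inv_mul_cancel]
        exact hE1 _⟩
    change n₁.left (pt g') ∈ E at hg1
    change n₂.left (pt g') ∈ E at hg2
    rw [← pt_comp, hn₁, key] at hg1
    rw [← pt_comp, hn₂, key] at hg2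
    rw [key]
    have h0 : ∀ x' : 𝟙_ (Over (Spec (CommRingCat.of k))) ⟶ X, x' ≫ f = y → sm a g₀ x' ≫ f = sm a g₀ x ≫ f := by
      intro x' hx'
      have h1 := hg1 (sm a (g' * g₀) x') (sm a (g' * g₀) x) (hg2 x' x hx' hx) rfl
      rw [← mul_sm, ← mul_sm, inv_mul_cancel_left] at h1
      exact h1
    intro x₁ x₂ h1 h2
    rw [h0 x₁ h1, h0 x₂ h2]
  have hEuniv : E = Set.univ := by
    by_contra hne
    have hcl : IsClosed Eᶜ := hE.isClosed_compl
    have hne' : (Eᶜ).Nonempty := by
      rw [Set.nonempty_compl]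
      exact hne
    obtain ⟨z, hz⟩ := exists_pt_mem hne' hcl.isLocallyClosed
    apply hz
    have : z = lift (z ≫ fst _ _) (z ≫ snd _ _) := by
      apply CartesianMonoidalCategory.hom_ext <;> simp
    rw [this]
    exact hEall _ _
  refine existsUnique_of_contracts f hf G a fun p q hpq => ?_
  have : F p ∈ E := by rw [hEuniv]; trivial
  exact this p q rfl hpq.symm

end K397.Blanchard
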