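import Groth.Agent.LVCorr.K954.FrobIter
import Groth.Agent.Variety.K430.Frob
import Groth.Agent.Sga3B.BcPts
import Mathlib.FieldTheory.Minpoly.IsConjRoot
import Mathlib.FieldTheory.SeparableDegree
import Mathlib.AlgebraicGeometry.Morphisms.FiniteType

/-!
# Frobenius data over a field, the Frobenius homomorphism and descent of Galois invariant points

* `FData k q` : the `q`-power Frobenius of `k`-schemes, `q` a power of the characteristic exponent; `nonempty_fdata`.
* `FData.θ`, `FData.φ` : the relative Frobenius `G ⟶ G^{(q)}` on points and as a morphism.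
* `exists_pow_mem` : an element of a normal extension fixed by all automorphisms is purely inseparable.
* `exists_descent` : a Galois invariant point descends after a Frobenius.
-/

set_option autoImplicit false
universe u
open AlgebraicGeometry CategoryTheory Limits MonoidalCategory CartesianMonoidalCategory MonObj

namespace K397.FrobDesc

open Groth.Agent.Sga3B.BcPts

/-- The `q`-power Frobenius of `k`-schemes. -/
structure FData (k : Type u) [Field k] (q : ℕ) where
  F : ∀ {X : Scheme.{u}}, (X ⟶ Spec (CommRingCat.of k)) → (X ⟶ X)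
  nat : ∀ {X Y : Scheme.{u}} (g : X ⟶ Y) (t : Y ⟶ Spec (CommRingCat.of k)), F (g ≫ t) ≫ g = g ≫ F t
  spec : ∀ (R : Type u) [CommRing R] (c : Spec (CommRingCat.of R) ⟶ Spec (CommRingCat.of k)) (φ : R →+* R)
    (_ : ∀ x, φ x = x ^ q), F c = Spec.map (CommRingCat.ofHom φ)
  apply : ∀ {X : Scheme.{u}} (t : X ⟶ Spec (CommRingCat.of k)) (x : X), F t x = x
  integral : ∀ {X : Scheme.{u}} (t : X ⟶ Spec (CommRingCat.of k)), IsIntegralHom (F t)

lemma fm_integral (X : Scheme.{u}) (p : ℕ) [Fact p.Prime] [FrobSch.IsCharP X p] (m : ℕ) :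
    IsIntegralHom (K954.FrobIter.fm X p m) := by
  induction m with
  | zero => rw [K954.FrobIter.fm_zero]; infer_instance
  | succ m ih =>
    rw [K954.FrobIter.fm_succ]
    have := K430.Frob.frob_isIntegralHom X p
    infer_instance

theorem nonempty_fdata (k : Type u) [Field k] (p : ℕ) [hp : ExpChar k p] (r : ℕ) : Nonempty (FData k (p ^ r)) := by
  cases hp with
  | zero =>
    refine ⟨{ F := fun {X} _ => 𝟙 X
              nat := fun g t => by rw [Category.comp_id, Category.id_comp]
              spec := fun R _ c φ hφ => ?_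
              apply := fun _ _ => rfl
              integral := fun _ => inferInstance }⟩
    have : φ = RingHom.id R := by
      ext x
      rw [hφ, one_pow, pow_one]
      rfl
    rw [this]
    exact (Spec.map_id _).symm
  | prime hp =>
    have : Fact p.Prime := ⟨hp⟩
    refine ⟨{ F := fun {X} t => by
                haveI := FrobSch.IsCharP.of_hom t p
                exact K954.FrobIter.fm X p r
              nat := fun {X Y} g t => ?_
              spec := fun R _ c φ hφ => ?_
              apply := fun {X} t x => ?_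
              integral := fun {X} t => ?_ }⟩
    · have := FrobSch.IsCharP.of_hom t p
      have := FrobSch.IsCharP.of_hom (g ≫ t) p
      exact K954.FrobIter.fm_comp p g r
    · have := FrobSch.IsCharP.of_hom c p
      exact K954.FrobIter.fm_Spec (CommRingCat.of R) p r φ hφ
    · have := FrobSch.IsCharP.of_hom t p
      exact K954.FrobIter.fm_apply X p r x
    · have := FrobSch.IsCharP.of_hom t p
      exact fm_integral X p r

namespace FData

variable {k : Type u} [Field k] {q : ℕ} (D : FData k q)

/-- The Frobenius of the base. -/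
noncomputable def f : Spec (CommRingCat.of k) ⟶ Spec (CommRingCat.of k) := D.F (𝟙 _)

lemma F_over {X : Scheme.{u}} (t : X ⟶ Spec (CommRingCat.of k)) : D.F t ≫ t = t ≫ D.f := by
  have := D.nat t (𝟙 _)
  rw [Category.comp_id] at this
  exact this

/-- The Frobenius of `T` as a morphism over `k`. -/
noncomputable def FT (T : Over (Spec (CommRingCat.of k))) : (Over.map D.f).obj T ⟶ T :=
  Over.homMk (D.F T.hom) (D.F_over T.hom)

lemma FT_nat {T T' : Over (Spec (CommRingCat.of k))} (t : T' ⟶ T) :
    (Over.map D.f).map t ≫ D.FT T = D.FT T' ≫ t := by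
  apply Over.OverMorphism.ext
  have h := D.nat t.left T.hom
  rw [Over.w t] at h
  exact h.symm

/-- The relative Frobenius on points `G(T) → G^{(q)}(T)`. -/
noncomputable def θ {T G : Over (Spec (CommRingCat.of k))} (g : T ⟶ G) : T ⟶ Red.bc D.f G :=
  bcEquiv D.f T G (D.FT T ≫ g)

lemma comp_θ {T T' G : Over (Spec (CommRingCat.of k))} (t : T' ⟶ T) (g : T ⟶ G) :
    D.θ (t ≫ g) = t ≫ D.θ g := by
  rw [θ, θ, ← comp_bcEquiv, ← Category.assoc, ← D.FT_nat t, Category.assoc]

lemma θ_mul {T G : Over (Spec (CommRingCat.of k))} [GrpObj G] (g g' : T ⟶ G) : D.θ (g * g') = D.θ g * D.θ g' := by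
  rw [θ, θ, θ, ← bcEquiv_mul, MonObj.comp_mul]

lemma θ_one {T G : Over (Spec (CommRingCat.of k))} [GrpObj G] : D.θ (1 : T ⟶ G) = 1 := by
  rw [θ, MonObj.comp_one, bcEquiv_one]

lemma θ_pow {T G : Over (Spec (CommRingCat.of k))} [GrpObj G] (g : T ⟶ G) (n : ℕ) : D.θ (g ^ n) = D.θ g ^ n := by
  induction n with
  | zero => rw [pow_zero, pow_zero, θ_one]
  | succ n ih => rw [pow_succ, pow_succ, θ_mul, ih]

/-- The relative Frobenius. -/
noncomputable def φ (G : Over (Spec (CommRingCat.of k))) : G ⟶ Red.bc D.f G := D.θ (𝟙 G)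

lemma θ_eq {T G : Over (Spec (CommRingCat.of k))} (g : T ⟶ G) : D.θ g = g ≫ D.φ G := by
  rw [φ, ← comp_θ, Category.comp_id]

instance isMonHom_φ (G : Over (Spec (CommRingCat.of k))) [GrpObj G] : IsMonHom (D.φ G) where
  one_hom := by
    have h1 : η[G] = (1 : 𝟙_ _ ⟶ G) := by rw [Hom.one_def, toUnit_unique (toUnit _) (𝟙 _), Category.id_comp]
    have h2 : η[Red.bc D.f G] = (1 : 𝟙_ _ ⟶ Red.bc D.f G) := by
      rw [Hom.one_def, toUnit_unique (toUnit _) (𝟙 _), Category.id_comp]
    rw [← θ_eq, h1, θ_one, h2]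
  mul_hom := by
    have h1 : μ[G] = fst G G * snd G G := by
      rw [Hom.mul_def, lift_fst_snd, Category.id_comp]
    have h2 : μ[Red.bc D.f G] = fst _ _ * snd _ _ := by
      rw [Hom.mul_def, lift_fst_snd, Category.id_comp]
    rw [← θ_eq, h1, θ_mul, θ_eq, θ_eq, h2, MonObj.comp_mul, tensorHom_fst, tensorHom_snd]

lemma bcEquiv_left {T X : Over (Spec (CommRingCat.of k))} (x : (Over.map D.f).obj T ⟶ X) :
    (bcEquiv D.f T X x).left = pullback.lift x.left T.hom (by simp) := by
  rw [bcEquiv, Over.mapPullbackAdj, Adjunction.mkOfHomEquiv_homEquiv]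
  rfl

lemma θ_left_fst {T G : Over (Spec (CommRingCat.of k))} (g : T ⟶ G) :
    (D.θ g).left ≫ pullback.fst G.hom D.f = D.F T.hom ≫ g.left := by
  rw [θ, bcEquiv_left]
  exact pullback.lift_fst _ _ _

lemma φ_left_fst (G : Over (Spec (CommRingCat.of k))) : (D.φ G).left ≫ pullback.fst G.hom D.f = D.F G.hom := by
  rw [φ, θ_left_fst]
  exact Category.comp_id _

end FData

/-- Elements of a normal extension fixed by all automorphisms are purely inseparable. -/
theorem exists_pow_mem (K L : Type*) [Field K] [Field L] [Algebra K L] [Normal K L] (p : ℕ) [ExpChar K p] (x : L)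
    (hx : ∀ γ : L ≃ₐ[K] L, γ x = x) : ∃ n : ℕ, x ^ p ^ n ∈ (algebraMap K L).range := by
  classical
  rw [← minpoly.natSepDegree_eq_one_iff_pow_mem p]
  rw [Polynomial.natSepDegree_eq_of_splits (E := L) (f := minpoly K x) (Normal.splits inferInstance x)]
  have hi : IsIntegral K x := Normal.isIntegral inferInstance x
  have h1 : ((minpoly K x).aroots L).toFinset = {x} := by
    ext y
    rw [Multiset.mem_toFinset, Finset.mem_singleton, ← isConjRoot_iff_mem_minpoly_aroots hi]
    constructor
    · intro h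
      obtain ⟨σ, hσ⟩ := h.symm.exists_algEquiv
      rw [← hσ, hx]
    · rintro rfl
      exact IsConjRoot.refl
  rw [h1, Finset.card_singleton]

/-- Ring version of the descent. -/
theorem exists_ringHom {k K L B : Type*} [Field k] [Field K] [Field L] [Algebra K L] [Normal K L] [CommRing B]
    (p : ℕ) [ExpChar K p] [ExpChar L p] (κ : k →+* B) (hκ : κ.FiniteType) (i : k →+* K) (f : B →+* L)
    (hf : f.comp κ = (algebraMap K L).comp i) (hinv : ∀ (γ : L ≃ₐ[K] L) (b : B), γ (f b) = f b) :
    ∃ (r : ℕ) (g : B →+* K), (algebraMap K L).comp g = (iterateFrobenius L p r).comp f := by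
  algebraize [κ]
  obtain ⟨s, hs⟩ := (inferInstance : Algebra.FiniteType k B)
  choose n hn using fun b : B => exists_pow_mem K L p (f b) (fun γ => hinv γ b)
  let r : ℕ := s.sup n
  let R : Subring L := (algebraMap K L).range
  let G : B →+* L := (iterateFrobenius L p r).comp f
  have hG : ∀ b, G b = f b ^ p ^ r := fun b => iterateFrobenius_def p r (f b)
  have hk : ∀ c : k, G (algebraMap k B c) ∈ R := by
    intro c
    rw [hG]
    have : f (algebraMap k B c) = algebraMap K L (i c) := congr($hf c)
    rw [this]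
    have h5 : algebraMap K L (i c) ∈ R := ⟨_, rfl⟩
    exact pow_mem h5 _
  have hmem : ∀ b, G b ∈ R := by
    intro b
    have hb : b ∈ Algebra.adjoin k (s : Set B) := by rw [hs]; trivial
    induction hb using Algebra.adjoin_induction with
    | mem x hx =>
      rw [hG]
      obtain ⟨m, hm⟩ : ∃ m, r = n x + m := ⟨r - n x, by have := Finset.le_sup (f := n) hx; omega⟩
      rw [hm, pow_add, pow_mul]
      exact pow_mem (hn x) _
    | algebraMap c => exact hk c
    | add x y _ _ hx hy => rw [map_add]; exact add_mem hx hy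
    | mul x y _ _ hx hy => rw [map_mul]; exact mul_mem hx hy
  let e : K ≃+* R := RingEquiv.ofBijective (algebraMap K L).rangeRestrict
    ⟨fun a b h => (algebraMap K L).injective (congrArg Subtype.val h), (algebraMap K L).rangeRestrict_surjective⟩
  refine ⟨r, (e.symm : R →+* K).comp (G.codRestrict R hmem), ?_⟩
  ext b
  have h1 : ∀ x : R, algebraMap K L (e.symm x) = x := fun x => congrArg Subtype.val (e.apply_symm_apply x)
  exact h1 _

/-- A Galois invariant point of a scheme of finite type descends after a Frobenius. -/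
theorem exists_descent {k K L : Type u} [Field k] [Field K] [Field L] [Algebra K L] [Normal K L] (p : ℕ)
    [ExpChar K p] [ExpChar L p] (A : Over (Spec (CommRingCat.of k))) [LocallyOfFiniteType A.hom]
    (c : Spec (CommRingCat.of K) ⟶ Spec (CommRingCat.of k)) (t : Spec (CommRingCat.of L) ⟶ A.left)
    (ht : t ≫ A.hom = Spec.map (CommRingCat.ofHom (algebraMap K L)) ≫ c)
    (hinv : ∀ γ : L ≃ₐ[K] L, Spec.map (CommRingCat.ofHom (γ : L →+* L)) ≫ t = t) :
    ∃ (r : ℕ) (t' : Spec (CommRingCat.of K) ⟶ A.left), Spec.map (CommRingCat.ofHom (algebraMap K L)) ≫ t' =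
      Spec.map (CommRingCat.ofHom (iterateFrobenius L p r)) ≫ t := by
  obtain ⟨U, hU, hzU, -⟩ := exists_isAffineOpen_mem_and_subset (x := t (IsLocalRing.closedPoint L)) (U := ⊤) trivial
  obtain ⟨i, rfl⟩ := Spec.map_surjective c
  have hrange : Set.range t ⊆ Set.range U.ι := by
    rintro _ ⟨x, rfl⟩
    rw [Subsingleton.elim (α := PrimeSpectrum L) x (IsLocalRing.closedPoint L), Scheme.Opens.range_ι]
    exact hzU
  let t₁ : Spec (CommRingCat.of L) ⟶ U := IsOpenImmersion.lift U.ι t hrange
  have ht₁ : t₁ ≫ U.ι = t := IsOpenImmersion.lift_fac _ _ _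
  let B : CommRingCat.{u} := Γ(A.left, U)
  have hUa : IsAffine U := hU
  obtain ⟨f, hf⟩ := Spec.map_surjective (t₁ ≫ hU.isoSpec.hom)
  have hf' : Spec.map f ≫ hU.fromSpec = t := by
    rw [hf, Category.assoc, IsAffineOpen.isoSpec_hom_fromSpec, ht₁]
  obtain ⟨κ, hκ⟩ := Spec.map_surjective (hU.fromSpec ≫ A.hom)
  have hκf : κ.hom.FiniteType := by
    have h1 : LocallyOfFiniteType (Spec.map κ) := by rw [hκ]; infer_instance
    exact (HasRingHomProperty.Spec_iff (P := @LocallyOfFiniteType)).1 h1
  have h1 : f.hom.comp κ.hom = (algebraMap K L).comp i.hom := by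
    have h2 : Spec.map (κ ≫ f) = Spec.map (i ≫ CommRingCat.ofHom (algebraMap K L)) := by
      rw [Spec.map_comp, Spec.map_comp, hκ, ← Category.assoc, hf', ht]
    exact congr(($(Spec.map_injective h2)).hom)
  have h3 : ∀ (γ : L ≃ₐ[K] L) (b : B), γ (f.hom b) = f.hom b := by
    intro γ b
    have h4 : Spec.map (f ≫ CommRingCat.ofHom (γ : L →+* L)) = Spec.map f := by
      rw [← cancel_mono hU.fromSpec, Spec.map_comp, Category.assoc, hf', hinv]
    exact congr(($(Spec.map_injective h4)).hom b)
  obtain ⟨r, g, hg⟩ := exists_ringHom p κ.hom hκf i.hom f.hom h1 h3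
  refine ⟨r, Spec.map (CommRingCat.ofHom g) ≫ hU.fromSpec, ?_⟩
  rw [← Category.assoc, ← Spec.map_comp, ← CommRingCat.ofHom_comp, hg, ← hf', ← Category.assoc, ← Spec.map_comp]
  rfl

end K397.FrobDesc
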