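import Groth.Prelude.Def_AlgGrp
import Groth.Agent.Books.BorelOrb
import Groth.Agent.Sga3.H780.NormField
import Mathlib.AlgebraicGeometry.ZariskisMainTheorem
import Mathlib.AlgebraicGeometry.AlgClosed.Basic

/-!
# The sum over the geometric points of a finite fibre

`m : Y ⟶ X` and `c : Y ⟶ A` with `A` a commutative group. For a geometric point `x` of `X` over which the fibre of `m` is
finite, `sum m c x` is the sum of the points `c w`, `w` running through the points of the fibre.
-/

set_option autoImplicit false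
universe u
open AlgebraicGeometry CategoryTheory Limits MonoidalCategory CartesianMonoidalCategory MonObj

namespace K397.GeoSum

open Groth.Agent Groth.Agent.Books.BorelOrb

/-- A point with values in a field of an algebra integral over an algebraically closed field comes from a rational
point. -/
theorem exists_ringHom {Ω Ω' B : Type u} [Field Ω] [IsAlgClosed Ω] [Field Ω'] [CommRing B] (γ : Ω →+* B)
    (hγ : γ.IsIntegral) (ε : Ω →+* Ω') (φ : B →+* Ω') (h : φ.comp γ = ε) :
    ∃ s : B →+* Ω, s.comp γ = RingHom.id Ω ∧ ε.comp s = φ := by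
  let f : Ω →+* φ.range := φ.rangeRestrict.comp γ
  have hf : f.IsIntegral := hγ.trans _ _ (RingHom.isIntegral_of_surjective _ φ.rangeRestrict_surjective)
  have hb : Function.Bijective f := IsAlgClosed.ringHom_bijective_of_isIntegral f hf
  let e := RingEquiv.ofBijective f hb
  refine ⟨(e.symm : φ.range →+* Ω).comp φ.rangeRestrict, ?_, ?_⟩
  · ext x
    exact e.symm_apply_apply x
  · ext b
    have h1 : ∀ x, ε x = (f x : Ω') := by
      intro x
      rw [← h]
      rfl
    change ε (e.symm (φ.rangeRestrict b)) = _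
    rw [h1]
    have h2 : f (e.symm (φ.rangeRestrict b)) = φ.rangeRestrict b := e.apply_symm_apply _
    rw [h2]
    rfl

theorem exists_section_affine {Ω Ω' B : Type u} [Field Ω] [IsAlgClosed Ω] [Field Ω'] [CommRing B]
    (g : Spec (CommRingCat.of B) ⟶ Spec (CommRingCat.of Ω)) [IsFinite g]
    (ε : Spec (CommRingCat.of Ω') ⟶ Spec (CommRingCat.of Ω)) (s' : Spec (CommRingCat.of Ω') ⟶ Spec (CommRingCat.of B))
    (h : s' ≫ g = ε) : ∃ s : Spec (CommRingCat.of Ω) ⟶ Spec (CommRingCat.of B), s ≫ g = 𝟙 _ ∧ ε ≫ s = s' := by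
  obtain ⟨γ, rfl⟩ := Spec.map_surjective g
  obtain ⟨e, rfl⟩ := Spec.map_surjective ε
  obtain ⟨φ, rfl⟩ := Spec.map_surjective s'
  have hγ : γ.hom.Finite := (IsFinite.SpecMap_iff γ).1 inferInstance
  have hcomp : φ.hom.comp γ.hom = e.hom := by
    rw [← Spec.map_comp] at h
    exact congr(($(Spec.map_injective h)).hom)
  obtain ⟨s, hs1, hs2⟩ := exists_ringHom γ.hom hγ.to_isIntegral e.hom φ.hom hcomp
  refine ⟨Spec.map (CommRingCat.ofHom s), ?_, ?_⟩
  · rw [← Spec.map_comp, ← Spec.map_id]
    congr 1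
    exact CommRingCat.hom_ext hs1
  · rw [← Spec.map_comp]
    congr 1
    exact CommRingCat.hom_ext hs2

theorem exists_section {Ω Ω' : Type u} [Field Ω] [IsAlgClosed Ω] [Field Ω'] {F : Scheme.{u}}
    (g : F ⟶ Spec (CommRingCat.of Ω)) [IsFinite g]
    (ε : Spec (CommRingCat.of Ω') ⟶ Spec (CommRingCat.of Ω)) (s' : Spec (CommRingCat.of Ω') ⟶ F)
    (h : s' ≫ g = ε) : ∃ s : Spec (CommRingCat.of Ω) ⟶ F, s ≫ g = 𝟙 _ ∧ ε ≫ s = s' := by
  have : IsAffine F := isAffine_of_isAffineHom g
  obtain ⟨s, hs1, hs2⟩ := exists_section_affine (B := Γ(F, ⊤)) (F.isoSpec.inv ≫ g) ε (s' ≫ F.isoSpec.hom) (by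
    rw [Category.assoc, Iso.hom_inv_id_assoc, h])
  refine ⟨s ≫ F.isoSpec.inv, by rw [Category.assoc, hs1], ?_⟩
  rw [← Category.assoc, hs2, Category.assoc, Iso.hom_inv_id, Category.comp_id]

theorem finite_section {Ω : Type u} [Field Ω] [IsAlgClosed Ω] {F : Scheme.{u}}
    (g : F ⟶ Spec (CommRingCat.of Ω)) [IsFinite g] :
    Finite {s : Spec (CommRingCat.of Ω) ⟶ F // s ≫ g = 𝟙 _} := by
  have h1 : (g ⁻¹' {IsLocalRing.closedPoint Ω}).Finite := Scheme.Hom.finite_preimage_singleton g _
  have h2 : Finite F := by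
    have : g ⁻¹' {IsLocalRing.closedPoint Ω} = Set.univ := by
      rw [Set.eq_univ_iff_forall]
      intro x
      exact Subsingleton.elim (α := PrimeSpectrum Ω) _ _
    rw [this] at h1
    exact Set.finite_univ_iff.1 h1
  refine Finite.of_injective (fun s : {s : Spec (CommRingCat.of Ω) ⟶ F // s ≫ g = 𝟙 _} =>
    s.1 (IsLocalRing.closedPoint Ω)) ?_
  rintro ⟨s, hs⟩ ⟨t, ht⟩ h
  exact Subtype.ext (ext_of_apply_closedPoint_eq g hs ht h)

theorem nonempty_section {Ω : Type u} [Field Ω] [IsAlgClosed Ω] {F : Scheme.{u}}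
    (g : F ⟶ Spec (CommRingCat.of Ω)) [LocallyOfFiniteType g] [Nonempty F] :
    Nonempty {s : Spec (CommRingCat.of Ω) ⟶ F // s ≫ g = 𝟙 _} := by
  have := LocallyOfFiniteType.jacobsonSpace g
  obtain ⟨z, -, hz⟩ := nonempty_inter_closedPoints (X := F) (Z := Set.univ) Set.univ_nonempty
    isOpen_univ.isLocallyClosed
  exact ⟨⟨pointOfClosedPoint g z hz, by simp⟩⟩

variable {S : Scheme.{u}}

section pts

variable {X Y : Over S} (m : Y ⟶ X)

/-- The points of `Y` over `x`. -/
abbrev Pts {T : Over S} (x : T ⟶ X) : Type u := {w : T ⟶ Y // w ≫ m = x}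

/-- Restriction of points. -/
def Pts.res {T T' : Over S} (e : T' ⟶ T) (x : T ⟶ X) (w : Pts m x) : Pts m (e ≫ x) :=
  ⟨e ≫ w.1, by rw [Category.assoc, w.2]⟩

variable {Ω : Type u} [Field Ω] [IsAlgClosed Ω] {c : Spec (CommRingCat.of Ω) ⟶ S} (x : Over.mk c ⟶ X)
  [IsFinite (pullback.snd m.left x.left)]

theorem finite_pts : Finite (Pts m x) := by
  have h := finite_section (pullback.snd m.left x.left)
  refine Finite.of_injective (fun w : Pts m x => (⟨pullback.lift w.1.left (𝟙 _) (by
    rw [← Over.comp_left, w.2]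
    exact (Category.id_comp _).symm), pullback.lift_snd _ _ _⟩ :
      {s : Spec (CommRingCat.of Ω) ⟶ pullback m.left x.left // s ≫ pullback.snd m.left x.left = 𝟙 _})) ?_
  intro w w' h
  refine Subtype.ext (Over.OverMorphism.ext ?_)
  have h1 := congr(($h).1 ≫ pullback.fst m.left x.left)
  exact (pullback.lift_fst _ _ _).symm.trans (h1.trans (pullback.lift_fst _ _ _))

theorem nonempty_pts [Nonempty ↥(pullback m.left x.left)] : Nonempty (Pts m x) := by
  obtain ⟨s, hs⟩ := nonempty_section (pullback.snd m.left x.left)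
  have h1 : (s ≫ pullback.fst m.left x.left) ≫ m.left = x.left := by
    rw [Category.assoc, pullback.condition, ← Category.assoc, hs]
    exact Category.id_comp _
  refine ⟨⟨Over.homMk (s ≫ pullback.fst m.left x.left) ?_, Over.OverMorphism.ext h1⟩⟩
  rw [← Over.w m, ← Category.assoc, h1]
  exact Over.w x

theorem bijective_res {Ω' : Type u} [Field Ω'] {c' : Spec (CommRingCat.of Ω') ⟶ S} (e : Over.mk c' ⟶ Over.mk c) :
    Function.Bijective (Pts.res m e x) := by
  constructor
  · rintro ⟨w, hw⟩ ⟨w', hw'⟩ h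
    obtain ⟨ε, hε⟩ := Spec.map_surjective e.left
    have hepi : Epi e.left := by
      rw [← hε]
      exact Sga3.H780.NormField.epi_specMap Ω Ω' ε.hom
    have h1 : e ≫ w = e ≫ w' := congr(($h).1)
    refine Subtype.ext (Over.OverMorphism.ext ?_)
    rw [← cancel_epi e.left]
    exact congr(($h1).left)
  · rintro ⟨w', hw'⟩
    obtain ⟨s, hs1, hs2⟩ := exists_section (pullback.snd m.left x.left) e.left
      (pullback.lift w'.left e.left (congr(($hw').left))) (pullback.lift_snd _ _ _)
    have h1 : (s ≫ pullback.fst m.left x.left) ≫ m.left = x.left := by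
      rw [Category.assoc, pullback.condition, ← Category.assoc, hs1]
      exact Category.id_comp _
    refine ⟨⟨Over.homMk (s ≫ pullback.fst m.left x.left) ?_, Over.OverMorphism.ext h1⟩, ?_⟩
    · rw [← Over.w m, ← Category.assoc, h1]
      exact Over.w x
    · refine Subtype.ext (Over.OverMorphism.ext ?_)
      change e.left ≫ s ≫ pullback.fst m.left x.left = w'.left
      rw [← Category.assoc, hs2]
      exact pullback.lift_fst _ _ _

end pts

/-- A base change along a field extension of a finite fibre is finite. -/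
theorem isFinite_comp {X Y : Over S} (m : Y ⟶ X) {T T' : Over S} (e : T' ⟶ T) (x : T ⟶ X)
    [h : IsFinite (pullback.snd m.left x.left)] : IsFinite (pullback.snd m.left (e ≫ x).left) := by
  have h1 : IsPullback (pullback.fst m.left (e ≫ x).left) (pullback.snd m.left (e ≫ x).left) m.left (e.left ≫ x.left) := by
    rw [← Over.comp_left]
    exact IsPullback.of_hasPullback _ _
  have h2 : IsPullback (pullback.fst m.left x.left) (pullback.snd m.left x.left) m.left x.left :=
    IsPullback.of_hasPullback _ _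
  have h3 := IsPullback.of_right' h1 h2
  exact MorphismProperty.of_isPullback (P := @IsFinite) h3 h

section sum

variable {A X Y : Over S} [GrpObj A] [IsCommMonObj A] (m : Y ⟶ X) (c : Y ⟶ A)

/-- The sum of the images in `A` of the points over `x`. -/
noncomputable def sum {T : Over S} (x : T ⟶ X) : T ⟶ A := ∏ᶠ w : Pts m x, w.1 ≫ c

theorem comp_sum {T T' : Over S} (e : T' ⟶ T) (x : T ⟶ X) [Finite (Pts m x)]
    (hb : Function.Bijective (Pts.res m e x)) : e ≫ sum m c x = sum m c (e ≫ x) := by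
  let F : (T ⟶ A) →* (T' ⟶ A) :=
    { toFun := fun g => e ≫ g
      map_one' := MonObj.comp_one _
      map_mul' := fun g h => MonObj.comp_mul _ _ _ }
  have h1 : F (sum m c x) = ∏ᶠ w : Pts m x, F (w.1 ≫ c) := MonoidHom.map_finprod F (Set.toFinite _)
  refine h1.trans ?_
  refine finprod_eq_of_bijective (Pts.res m e x) hb ?_
  intro w
  change e ≫ w.1 ≫ c = (e ≫ w.1) ≫ c
  rw [Category.assoc]

end sum

section act

variable {A X Z : Over S} [GrpObj A] [IsCommMonObj A] (a : AlgGrp.Action A X) (j : Z ⟶ X)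

/-- `(b, z) ↦ b z` -/
noncomputable abbrev mm : A ⊗ Z ⟶ X := (A ◁ j) ≫ a.act

omit [IsCommMonObj A] in
theorem comp_mm {T : Over S} (b : T ⟶ A) (z : T ⟶ Z) : lift b z ≫ mm a j = sm a b (z ≫ j) := by
  rw [← Category.assoc, lift_whiskerLeft]
  rfl

/-- Translation of the points over `x`. -/
noncomputable def trEquiv {T : Over S} (b : T ⟶ A) (x : T ⟶ X) : Pts (mm a j) x ≃ Pts (mm a j) (sm a b x) where
  toFun w := ⟨lift (b * (w.1 ≫ fst A Z)) (w.1 ≫ snd A Z), by
    have h := w.2
    rw [← lift_comp_fst_snd w.1, comp_mm] at h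
    rw [comp_mm, mul_sm, h]⟩
  invFun w := ⟨lift (b⁻¹ * (w.1 ≫ fst A Z)) (w.1 ≫ snd A Z), by
    have h := w.2
    rw [← lift_comp_fst_snd w.1, comp_mm] at h
    rw [comp_mm, mul_sm, h, ← mul_sm, inv_mul_cancel, one_sm]⟩
  left_inv w := Subtype.ext (by
    change lift (b⁻¹ * (lift _ _ ≫ fst A Z)) (lift _ _ ≫ snd A Z) = w.1
    rw [lift_fst, lift_snd, inv_mul_cancel_left, lift_comp_fst_snd])
  right_inv w := Subtype.ext (by
    change lift (b * (lift _ _ ≫ fst A Z)) (lift _ _ ≫ snd A Z) = w.1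
    rw [lift_fst, lift_snd, mul_inv_cancel_left, lift_comp_fst_snd])

theorem sum_sm {T : Over S} (b : T ⟶ A) (x : T ⟶ X) [Finite (Pts (mm a j) x)] :
    sum (mm a j) (fst A Z) (sm a b x) = b ^ Nat.card (Pts (mm a j) x) * sum (mm a j) (fst A Z) x := by
  have := Fintype.ofFinite (Pts (mm a j) x)
  have h1 : sum (mm a j) (fst A Z) (sm a b x) = ∏ᶠ w : Pts (mm a j) x, b * (w.1 ≫ fst A Z) := by
    symm
    refine finprod_eq_of_bijective (trEquiv a j b x) (trEquiv a j b x).bijective ?_
    intro w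
    exact (lift_fst _ _).symm
  rw [h1, sum, finprod_eq_prod_of_fintype, finprod_eq_prod_of_fintype, Finset.prod_mul_distrib, Finset.prod_const,
    Finset.card_univ, Nat.card_eq_fintype_card]

end act

end K397.GeoSum
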