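import Groth.Agent.AlgGrp.K397.MinSec
import Groth.Agent.AlgGrp.K397.GeoSum
import Groth.Agent.AlgGrp.K397.FrobDesc
import Groth.Agent.Sga3.H780.RatExt
import Groth.Agent.Sga7.H756.RevIsog

/-!
# Equivariant morphisms to abelian varieties

`k` algebraically closed, `A` an abelian variety acting faithfully on a smooth variety `X`; there are `φ : X ⟶ A` and
`n > 0` with `φ(a x) = φ(x) a^n`.
-/

set_option autoImplicit false
universe u
open AlgebraicGeometry CategoryTheory Limits MonoidalCategory CartesianMonoidalCategory MonObj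

namespace K397.EquivMor

open Groth.Agent Groth.Agent.Books.BorelOrb K397.GeoSum K397.FrobDesc

theorem map_genericPoint {X Y : Scheme.{u}} (f : Y ⟶ X) [IrreducibleSpace Y] [IrreducibleSpace X] [IsDominant f] :
    f (genericPoint Y) = genericPoint X := by
  refine IsGenericPoint.eq ?_ (genericPoint_spec X)
  have h := (genericPoint_spec Y).image f.continuous
  rw [Set.image_univ, f.denseRange.closure_range] at h
  exact h

/-- A geometric point over the generic point factors through a fixed algebraic closure of the function field. -/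
theorem exists_factor {X : Scheme.{u}} [IsIntegral X] (L : Type u) [Field L] [Algebra X.functionField L]
    [Algebra.IsAlgebraic X.functionField L] {Ω : Type u} [Field Ω] [IsAlgClosed Ω]
    (x : Spec (CommRingCat.of Ω) ⟶ X) (hx : x (IsLocalRing.closedPoint Ω) = genericPoint X) :
    ∃ u : Spec (CommRingCat.of Ω) ⟶ Spec (CommRingCat.of L),
      u ≫ Spec.map (CommRingCat.ofHom (algebraMap X.functionField L)) ≫ X.fromSpecStalk (genericPoint X) = x := by
  obtain ⟨v, hv⟩ : ∃ v : Spec (CommRingCat.of Ω) ⟶ Spec X.functionField, v ≫ X.fromSpecStalk (genericPoint X) = x := by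
    have h1 := Scheme.Spec_stalkClosedPointTo_fromSpecStalk x
    have h2 : ∀ y : X, x (IsLocalRing.closedPoint Ω) = y →
        ∃ v : Spec (CommRingCat.of Ω) ⟶ Spec (X.presheaf.stalk y), v ≫ X.fromSpecStalk y = x := by
      rintro _ rfl
      exact ⟨_, h1⟩
    exact h2 _ hx
  obtain ⟨φ, rfl⟩ := Spec.map_surjective v
  let : Algebra X.functionField Ω := φ.hom.toAlgebra
  let j : L →ₐ[X.functionField] Ω := IsAlgClosed.lift
  refine ⟨Spec.map (CommRingCat.ofHom j.toRingHom), ?_⟩
  rw [← Category.assoc, ← Spec.map_comp, ← hv]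
  congr 2
  exact CommRingCat.hom_ext j.comp_algebraMap

section isog

variable {k : Type u} [Field k] {q : ℕ} (D : FData k q)

theorem F_f (φ : k →+* k) (hφ : ∀ x, φ x = x ^ q) : D.F D.f = D.f := by
  rw [FData.f, D.spec k _ φ hφ]
  exact (D.spec k (𝟙 _) φ hφ).symm

theorem fst_φ (φ : k →+* k) (hφ : ∀ x, φ x = x ^ q) (A : Over (Spec (CommRingCat.of k))) :
    pullback.fst A.hom D.f ≫ (D.φ A).left = D.F (pullback.fst A.hom D.f ≫ A.hom) := by
  have h0 : (D.φ A).left ≫ pullback.snd A.hom D.f = A.hom := Over.w (D.φ A)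
  apply pullback.hom_ext
  · rw [Category.assoc, D.φ_left_fst, D.nat]
  · rw [Category.assoc, h0, pullback.condition, D.nat, F_f D φ hφ]

theorem isIsogeny_φ (φ : k →+* k) (hφ : ∀ x, φ x = x ^ q) (A : Over (Spec (CommRingCat.of k))) [GrpObj A]
    [IsProper A.hom] : SGA7.IsIsogenyOver (D.φ A) := by
  have h1 : (D.φ A).left ≫ pullback.fst A.hom D.f = D.F A.hom := D.φ_left_fst A
  have h3 : IsIntegralHom (D.F A.hom) := D.integral A.hom
  have hfa : IsAffineHom (pullback.fst A.hom D.f) :=
    MorphismProperty.pullback_fst (P := @IsAffineHom) _ _ inferInstance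
  have h4 : IsIntegralHom (D.φ A).left := by
    have : IsIntegralHom ((D.φ A).left ≫ pullback.fst A.hom D.f) := by rw [h1]; exact h3
    exact IsIntegralHom.of_comp _ (pullback.fst A.hom D.f)
  have h5 : LocallyOfFiniteType (D.φ A).left := by
    have : LocallyOfFiniteType ((D.φ A).left ≫ (Red.bc D.f A).hom) := by rw [Over.w]; infer_instance
    exact locallyOfFiniteType_of_comp _ (Red.bc D.f A).hom
  have h6 : IsFinite (D.φ A).left := (IsFinite.iff_isIntegralHom_and_locallyOfFiniteType _).2 ⟨h4, h5⟩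
  refine ⟨⟨fun y => ⟨pullback.fst A.hom D.f y, ?_⟩⟩, ?_⟩
  · have := congr($(fst_φ D φ hφ A) y)
    rw [D.apply, Scheme.Hom.comp_apply] at this
    exact this
  · intro N i hi
    have h8 : IsPullback i.left (toUnit N).left (D.φ A).left
      (η[Red.bc D.f A] : 𝟙_ (Over (Spec (CommRingCat.of k))) ⟶ _).left := hi.map (Over.forget _)
    exact MorphismProperty.of_isPullback (P := @IsFinite) h8 h6

end isog

theorem exists_ext {k : Type u} [Field k] (X A : Over (Spec (CommRingCat.of k))) [hA : GrpObj A] [IsProper A.hom]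
    [IsIntegral X.left] [Smooth X.hom] (f : Spec X.left.functionField ⟶ A.left)
    (hf : f ≫ A.hom = X.left.fromSpecStalk (genericPoint X.left) ≫ X.hom) :
    ∃ g : X ⟶ A, X.left.fromSpecStalk (genericPoint X.left) ≫ g.left = f := by
  have hA' : GrpObj (Over.mk A.hom) := hA
  obtain ⟨g₀, hg₀, hg₀'⟩ := Sga3.H780.RatExt.exists_extension_functionField X.hom A.hom f hf
  exact ⟨Over.homMk g₀ hg₀, hg₀'⟩

/-- The main theorem over an arbitrary field: `A` an abelian variety acting on a smooth integral separated scheme of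
finite type such that `(a, x) ↦ (a x, x)` is finite. -/
theorem exists_equivariant {k : Type u} [Field k] (A X : Over (Spec (CommRingCat.of k))) [GrpObj A]
    [IsProper A.hom] [Smooth A.hom] [ConnectedSpace ↥A.left] [QuasiCompact X.hom]
    [IsSeparated X.hom] [IsIntegral X.left] [Smooth X.hom] (a : AlgGrp.Action A X)
    (hψ : IsFinite (lift a.act (snd A X)).left) :
    ∃ (φ : X ⟶ A) (n : ℕ), 0 < n ∧
      ∀ (T : Over (Spec (CommRingCat.of k))) (g : T ⟶ A) (x : T ⟶ X), lift g x ≫ a.act ≫ φ = (x ≫ φ) * g ^ n := by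
  have hAg := Sga3.H780.Pointed.geometricallyIntegral A
  have hcomm : IsCommMonObj A := isCommMonObj_of_isProper_of_geometricallyIntegral A
  have hnoeth : IsLocallyNoetherian X.left := LocallyOfFiniteType.isLocallyNoetherian X.hom
  have hcpt : CompactSpace X.left := QuasiCompact.compactSpace_of_compactSpace X.hom
  have hnoeth' : IsNoetherian X.left := { }
  have hsep : IsSeparated (Red.bc (𝟙 (Spec (CommRingCat.of k))) A).hom := inferInstanceAs (IsSeparated (pullback.snd _ _))
  obtain ⟨Z, j, hj, hfin, hgen⟩ := MinSec.exists_section a inferInstance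
  -- the generic point and an algebraic closure
  let K : Type u := X.left.functionField
  let ξ : Spec (CommRingCat.of K) ⟶ X.left := X.left.fromSpecStalk (genericPoint X.left)
  let c : Spec (CommRingCat.of K) ⟶ Spec (CommRingCat.of k) := ξ ≫ X.hom
  let xK : Over.mk c ⟶ X := Over.homMk ξ rfl
  let L : Type u := AlgebraicClosure K
  let π : Spec (CommRingCat.of L) ⟶ Spec (CommRingCat.of K) := Spec.map (CommRingCat.ofHom (algebraMap K L))
  let cL : Spec (CommRingCat.of L) ⟶ Spec (CommRingCat.of k) := π ≫ c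
  let e₀ : Over.mk cL ⟶ Over.mk c := Over.homMk π rfl
  let x₀ : Over.mk cL ⟶ X := e₀ ≫ xK
  let m : A ⊗ Z ⟶ X := mm a j
  have hfinK : IsFinite (pullback.snd m.left xK.left) := hfin
  have hfin0 : IsFinite (pullback.snd m.left x₀.left) := isFinite_comp m e₀ xK
  have hπepi : Epi π := Sga3.H780.NormField.epi_specMap K L (algebraMap K L)
  let t₀ : Over.mk cL ⟶ A := sum m (fst A Z) x₀
  have hpts0 : Finite (Pts m x₀) := finite_pts m x₀
  -- Galois invariance
  have hinv : ∀ γ : L ≃ₐ[K] L, Spec.map (CommRingCat.ofHom (γ : L →+* L)) ≫ t₀.left = t₀.left := by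
    intro γ
    have h0 : Spec.map (CommRingCat.ofHom (γ : L →+* L)) ≫ π = π := by
      rw [← Spec.map_comp, ← CommRingCat.ofHom_comp]
      congr 2
      exact (γ : L →ₐ[K] L).comp_algebraMap
    let g' : Over.mk cL ⟶ Over.mk cL := Over.homMk (Spec.map (CommRingCat.ofHom (γ : L →+* L))) (by
      change Spec.map _ ≫ π ≫ c = π ≫ c
      rw [← Category.assoc, h0])
    have h1 : g' ≫ x₀ = x₀ := by
      have h2 : g' ≫ e₀ = e₀ := Over.OverMorphism.ext h0
      rw [← Category.assoc, h2]
    have h3 := comp_sum m (fst A Z) g' x₀ (bijective_res m x₀ g')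
    rw [h1] at h3
    exact congr(($h3).left)
  -- descent
  obtain ⟨p, hp⟩ := ExpChar.exists k
  obtain ⟨i, hi⟩ := Spec.map_surjective c
  have hpK : ExpChar K p := expChar_of_injective_ringHom i.hom.injective p
  have hpL : ExpChar L p := expChar_of_injective_ringHom (algebraMap K L).injective p
  obtain ⟨r, t', ht'⟩ := exists_descent p A c t₀.left (Over.w t₀) hinv
  obtain ⟨D⟩ := nonempty_fdata k p r
  have hfr : ∀ x : k, iterateFrobenius k p r x = x ^ p ^ r := fun x => iterateFrobenius_def p r x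
  have hF : D.F cL = Spec.map (CommRingCat.ofHom (iterateFrobenius L p r)) :=
    D.spec L cL (iterateFrobenius L p r) (fun x => iterateFrobenius_def p r x)
  rw [← hF] at ht'
  have ht'A : t' ≫ A.hom = c ≫ D.f := by
    rw [← cancel_epi π, ← Category.assoc, ht', Category.assoc, Over.w t₀, ← Category.assoc π]
    exact D.F_over cL
  let A' : Over (Spec (CommRingCat.of k)) := Red.bc D.f A
  have hA'p : IsProper A'.hom := inferInstanceAs (IsProper (pullback.snd A.hom D.f))
  have hA'g : GeometricallyIntegral A'.hom := inferInstanceAs (GeometricallyIntegral (pullback.snd A.hom D.f))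
  let t'' : Spec (CommRingCat.of K) ⟶ A'.left := pullback.lift t' c ht'A
  have ht''1 : t'' ≫ A'.hom = c := pullback.lift_snd _ _ _
  let tK : Over.mk c ⟶ A' := Over.homMk t'' ht''1
  have htK : e₀ ≫ tK = D.θ t₀ := by
    refine Over.OverMorphism.ext ?_
    apply pullback.hom_ext
    · rw [D.θ_left_fst]
      change (π ≫ t'') ≫ pullback.fst A.hom D.f = _
      rw [Category.assoc, pullback.lift_fst]
      exact ht'
    · change (π ≫ t'') ≫ pullback.snd A.hom D.f = (D.θ t₀).left ≫ A'.hom
      rw [Category.assoc, pullback.lift_snd, Over.w (D.θ t₀)]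
      rfl
  -- extension to a morphism
  obtain ⟨ψ, hψ'⟩ := exists_ext X A' t'' ht''1
  have hψK : xK ≫ ψ = tK := Over.OverMorphism.ext hψ'
  -- a geometric generic point of `A × X`
  have hI : IsIntegral (A ⊗ X).left := AVSub.isIntegral_tensor A X
  let Ω : Type u := AlgebraicClosure (A ⊗ X).left.functionField
  let z' : Spec (CommRingCat.of Ω) ⟶ (A ⊗ X).left :=
    Spec.map (CommRingCat.ofHom (algebraMap (A ⊗ X).left.functionField Ω)) ≫
      (A ⊗ X).left.fromSpecStalk (genericPoint (A ⊗ X).left)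
  have hz' : ∀ y, z' y = genericPoint (A ⊗ X).left := by
    intro y
    have h1 : z' y ∈ Set.range ((A ⊗ X).left.fromSpecStalk (genericPoint (A ⊗ X).left)) :=
      ⟨Spec.map (CommRingCat.ofHom (algebraMap (A ⊗ X).left.functionField Ω)) y, (Scheme.Hom.comp_apply _ _ _).symm⟩
    rw [Scheme.range_fromSpecStalk] at h1
    exact ((genericPoint_specializes (z' y)).antisymm h1).eq.symm
  let T₂ : Over (Spec (CommRingCat.of k)) := Over.mk (z' ≫ (A ⊗ X).hom)
  let z : T₂ ⟶ A ⊗ X := Over.homMk z' rfl
  let b : T₂ ⟶ A := z ≫ fst A X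
  let x : T₂ ⟶ X := z ≫ snd A X
  have hxb : z ≫ a.act = sm a b x := by
    change _ = lift (z ≫ fst A X) (z ≫ snd A X) ≫ a.act
    rw [lift_comp_fst_snd]
  -- key computation
  have key : ∀ y : T₂ ⟶ X, y.left (IsLocalRing.closedPoint Ω) = genericPoint X.left →
      IsFinite (pullback.snd m.left y.left) ∧ y ≫ ψ = D.θ (sum m (fst A Z) y) := by
    intro y hy
    obtain ⟨u', hu'⟩ := exists_factor L y.left hy
    let u : T₂ ⟶ Over.mk cL := Over.homMk u' (by
      change u' ≫ π ≫ ξ ≫ X.hom = z' ≫ (A ⊗ X).hom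
      have h1 : (u' ≫ π ≫ ξ) ≫ X.hom = y.left ≫ X.hom := by
        congr 1
      rw [Category.assoc, Category.assoc] at h1
      rw [h1]
      exact Over.w y)
    have hu : u ≫ x₀ = y := Over.OverMorphism.ext hu'
    refine ⟨?_, ?_⟩
    · rw [← hu]
      exact isFinite_comp m u x₀
    · rw [← hu, ← comp_sum m (fst A Z) u x₀ (bijective_res m x₀ u), D.comp_θ, ← htK, ← hψK]
      simp only [Category.assoc, x₀]
  have hne : Nonempty A.left := inferInstance
  have hAs : Surjective A.hom := ⟨fun y => ⟨hne.some, Subsingleton.elim (α := PrimeSpectrum k) _ _⟩⟩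
  have hsnd : Surjective (snd A X).left := K395.Act.snd_mem @Surjective A X hAs
  have hact : Surjective a.act.left := K395.Act.act_mem @Surjective a hAs
  have hx1 : x.left (IsLocalRing.closedPoint Ω) = genericPoint X.left := by
    change (z' ≫ (snd A X).left) (IsLocalRing.closedPoint Ω) = _
    rw [Scheme.Hom.comp_apply, hz', map_genericPoint]
  have hx2 : (z ≫ a.act).left (IsLocalRing.closedPoint Ω) = genericPoint X.left := by
    change (z' ≫ a.act.left) (IsLocalRing.closedPoint Ω) = _
    rw [Scheme.Hom.comp_apply, hz', map_genericPoint]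
  obtain ⟨hfx, hkx⟩ := key x hx1
  obtain ⟨-, hky⟩ := key (z ≫ a.act) hx2
  have hptsx : Finite (Pts m x) := finite_pts m x
  have hne' : Nonempty ↥(pullback m.left x.left) := by
    obtain ⟨w, hw⟩ := hgen
    obtain ⟨y, -⟩ := Scheme.Pullback.exists_preimage_pullback (f := m.left) (g := x.left) w
      (IsLocalRing.closedPoint Ω) (hw.trans hx1.symm)
    exact ⟨y⟩
  have hnept : Nonempty (Pts m x) := nonempty_pts m x
  let n : ℕ := Nat.card (Pts m x)
  have hn : 0 < n := Nat.card_pos
  -- equivariance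
  have heq : a.act ≫ ψ = (snd A X ≫ ψ) * (fst A X ≫ D.φ A) ^ n := by
    have hdz : IsDominant z.left := by
      refine ⟨?_⟩
      have h1 : genericPoint (A ⊗ X).left ∈ Set.range z' := ⟨IsLocalRing.closedPoint Ω, hz' _⟩
      have h2 : Dense ({genericPoint (A ⊗ X).left} : Set (A ⊗ X).left) := by
        rw [dense_iff_closure_eq]
        exact genericPoint_spec _
      exact h2.mono (Set.singleton_subset_iff.2 h1)
    refine Sga3.H780.PointedProd.ext_of_dominant T₂ (A ⊗ X) A' z _ _ ?_
    have h3 : sum m (fst A Z) (z ≫ a.act) = sum m (fst A Z) x * b ^ n := by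
      rw [hxb]
      exact (sum_sm a j b x).trans (mul_comm _ _)
    rw [← Category.assoc, hky, h3, D.θ_mul, D.θ_pow, ← hkx, D.θ_eq b, MonObj.comp_mul, MonObj.comp_pow]
    rfl
  -- the complementary isogeny
  obtain ⟨n', v, hn', hv, hv1, -⟩ := Sga7.H756.RevIsog.exists_rev k (D.φ A)
    (isIsogeny_φ D (iterateFrobenius k p r) hfr A)
  refine ⟨ψ ≫ v, n' * n, Nat.mul_pos hn' hn, fun T g y => ?_⟩
  have h5 : lift g y ≫ a.act ≫ ψ = (y ≫ ψ) * (g ≫ D.φ A) ^ n := by
    rw [heq, MonObj.comp_mul, MonObj.comp_pow, ← Category.assoc, lift_snd, ← Category.assoc, lift_fst]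
  rw [← Category.assoc a.act, ← Category.assoc (lift g y), h5, MonObj.mul_comp, MonObj.pow_comp, Category.assoc,
    Category.assoc, hv1, MonObj.comp_pow, Category.comp_id, pow_mul]

end K397.EquivMor
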