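import Groth.Agent.AlgGrp.K397.OrbFin
import Groth.Agent.AlgGrp.K395.Act
import Groth.Agent.Sga3C.ClosedSub
import Groth.Agent.Ega1.ReducedSub
import Mathlib.AlgebraicGeometry.FunctionField
import Mathlib.AlgebraicGeometry.Noetherian

/-!
# Multisections of an action of a proper group with finite `(a, x) ↦ (a x, x)`

`A` proper, acting on a separated integral noetherian scheme `X` such that `(a, x) ↦ (a x, x)` is affine. There is a
closed subscheme `Z` of `X` such that `A × Z ⟶ X`, `(a, z) ↦ a z`, is finite and surjective over the generic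
point of `X`.
-/

set_option autoImplicit false
universe u
open AlgebraicGeometry CategoryTheory Limits MonoidalCategory CartesianMonoidalCategory MonObj

namespace K397.MinSec

open Groth.Agent Groth.Agent.Books.BorelOrb Groth.Agent.Sga3C.ClosedSub

/-- In a fibre product over an affine scheme the product of affine opens is affine. -/
theorem isAffineOpen_inf {X Y S : Scheme.{u}} [IsAffine S] (f : X ⟶ S) (g : Y ⟶ S) {U : X.Opens}
    (hU : IsAffineOpen U) {V : Y.Opens} (hV : IsAffineOpen V) :
    IsAffineOpen (pullback.fst f g ⁻¹ᵁ U ⊓ pullback.snd f g ⁻¹ᵁ V) := by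
  have H := IsPullback.of_hasPullback f g
  have hS : IsAffineOpen (⊤ : S.Opens) := isAffineOpen_top S
  have : IsAffine U := hU
  have : IsAffine V := hV
  have : IsAffine (⊤ : S.Opens) := hS
  exact .of_isIso (Scheme.Hom.isPullback_resLE H (US := ⊤) (UX := U) (UT := V)
    le_top le_top rfl).isoPullback.hom

theorem isPullback_whiskerLeft {C : Type*} [Category* C] [CartesianMonoidalCategory C] (A : C) {X Y : C}
    (f : X ⟶ Y) : IsPullback (A ◁ f) (snd A X) (snd A Y) f where
  w := by simp
  isLimit' := ⟨PullbackCone.IsLimit.mk _ (fun s => lift (s.fst ≫ fst A Y) s.snd)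
    (fun s => by
      apply CartesianMonoidalCategory.hom_ext
      · simp
      · simp [s.condition])
    (fun s => by simp)
    (fun s m h1 h2 => by
      apply CartesianMonoidalCategory.hom_ext
      · simp [← h1]
      · simpa using h2)⟩

variable {S : Scheme.{u}} [IsAffine S] {A X : Over S} [GrpObj A] [IsProper A.hom] [IsSeparated X.hom]
  [IsIntegral X.left] [TopologicalSpace.NoetherianSpace X.left] (a : AlgGrp.Action A X)

theorem exists_section (hψ : IsAffineHom (lift a.act (snd A X)).left) :
    ∃ (Z : Over S) (j : Z ⟶ X), IsClosedImmersion j.left ∧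
      IsFinite (pullback.snd ((A ◁ j) ≫ a.act).left (X.left.fromSpecStalk (genericPoint X.left))) ∧
      genericPoint X.left ∈ Set.range ((A ◁ j) ≫ a.act).left := by
  let P : TopologicalSpace.Closeds X.left → Prop := fun C =>
    ∃ z : (A ⊗ X).left, (snd A X).left z ∈ C ∧ a.act.left z = genericPoint X.left
  have hP : P ⊤ := by
    refine ⟨(lift (1 : X ⟶ A) (𝟙 X)).left (genericPoint X.left), trivial, ?_⟩
    rw [← Scheme.Hom.comp_apply, ← Over.comp_left]
    have : lift (1 : X ⟶ A) (𝟙 X) ≫ a.act = 𝟙 X := one_sm a (𝟙 X)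
    rw [this]
    rfl
  obtain ⟨C, hC, hCmin⟩ := (wellFounded_lt (α := TopologicalSpace.Closeds X.left)).has_min {C | P C} ⟨⊤, hP⟩
  let I : X.left.IdealSheafData := Scheme.IdealSheafData.vanishingIdeal C
  let Z : Over S := sub X I
  let j : Z ⟶ X := subι X I
  have hrange : Set.range j.left = C := by
    have h1 : Set.range I.subschemeι = C := by
      rw [I.range_subschemeι, Scheme.IdealSheafData.coe_support_vanishingIdeal]
    exact h1
  have hj : IsClosedImmersion j.left := inferInstance
  let m : A ⊗ Z ⟶ X := (A ◁ j) ≫ a.act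
  let ξ : Spec X.left.functionField ⟶ X.left := X.left.fromSpecStalk (genericPoint X.left)
  have hfstj : (A ◁ j) ≫ snd A X = snd A Z ≫ j := by simp
  have hAj : IsClosedImmersion (A ◁ j).left := by
    have h1 : IsPullback (A ◁ j).left (snd A Z).left (snd A X).left j.left :=
      (isPullback_whiskerLeft A j).map (Over.forget _)
    exact MorphismProperty.of_isPullback (P := @IsClosedImmersion) h1.flip hj
  have hact : IsProper a.act.left := K395.Act.act_mem @IsProper a inferInstance
  have hmprop : IsProper m.left := by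
    change IsProper ((A ◁ j) ≫ a.act).left
    rw [Over.comp_left]; infer_instance
  -- the generic fibre meets the section
  have hgen : genericPoint X.left ∈ Set.range m.left := by
    obtain ⟨z, hz, hz'⟩ := hC
    have hz1 : (snd A X).left z ∈ Set.range j.left := by rw [hrange]; exact hz
    obtain ⟨y, hy⟩ := hz1
    have h1 : IsPullback (A ◁ j).left (snd A Z).left (snd A X).left j.left :=
      (isPullback_whiskerLeft A j).map (Over.forget _)
    obtain ⟨w, hw, -⟩ := Scheme.Pullback.exists_preimage_pullback (f := (snd A X).left) (g := j.left) z y hy.symm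
    refine ⟨h1.isoPullback.inv w, ?_⟩
    change ((A ◁ j) ≫ a.act).left _ = _
    rw [Over.comp_left, Scheme.Hom.comp_apply, ← Scheme.Hom.comp_apply h1.isoPullback.inv, IsPullback.isoPullback_inv_fst, hw, hz']
  refine ⟨Z, j, hj, ?_, hgen⟩
  obtain ⟨z0, hz0⟩ := hgen
  obtain ⟨V, hV, hzV, -⟩ := exists_isAffineOpen_mem_and_subset (x := (snd A Z).left z0) (U := ⊤) trivial
  let C' : TopologicalSpace.Closeds X.left := ⟨j.left '' (V : Set Z.left)ᶜ, j.left.isClosedEmbedding.isClosedMap _ V.2.isClosed_compl⟩
  have hC' : C' < C := by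
    refine lt_of_le_of_ne ?_ ?_
    · rintro _ ⟨y, -, rfl⟩
      change _ ∈ (C : Set X.left)
      rw [← hrange]
      exact ⟨y, rfl⟩
    · intro he
      have h1 : j.left ((snd A Z).left z0) ∈ (C' : Set X.left) := by
        rw [he, ← hrange]
        exact ⟨_, rfl⟩
      obtain ⟨y, hy, hy'⟩ := h1
      rw [j.left.isClosedEmbedding.injective hy'] at hy
      exact hy hzV
  have hPC' : ¬ P C' := fun h => hCmin C' h hC'
  let W : Scheme.{u} := pullback m.left ξ
  have hξ : ∀ y, ξ y = genericPoint X.left := by
    intro y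
    have h1 : ξ y ∈ Set.range ξ := ⟨y, rfl⟩
    rw [Scheme.range_fromSpecStalk] at h1
    exact ((genericPoint_specializes (ξ y)).antisymm h1).eq.symm
  have hWξ : ∀ w : W, m.left (pullback.fst m.left ξ w) = genericPoint X.left := by
    intro w
    rw [← Scheme.Hom.comp_apply, pullback.condition, Scheme.Hom.comp_apply, hξ]
  have hWV : ∀ w : W, (snd A Z).left (pullback.fst m.left ξ w) ∈ V := by
    intro w
    by_contra hw
    apply hPC'
    refine ⟨(A ◁ j).left (pullback.fst m.left ξ w), ?_, ?_⟩
    · rw [← Scheme.Hom.comp_apply, ← Over.comp_left, hfstj]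
      exact ⟨_, hw, rfl⟩
    · rw [← Scheme.Hom.comp_apply, ← Over.comp_left]
      exact hWξ w
  obtain ⟨U, hU, hξU, -⟩ := exists_isAffineOpen_mem_and_subset (x := genericPoint X.left) (U := ⊤) trivial
  -- `W ⟶ X × Z` is affine with image in `U × V`
  let ψZ : A ⊗ Z ⟶ X ⊗ Z := lift m (snd A Z)
  have hψZ : IsAffineHom ψZ.left := by
    have h1 : ψZ ≫ (X ◁ j) = (A ◁ j) ≫ lift a.act (snd A X) := by
      apply CartesianMonoidalCategory.hom_ext <;> simp [ψZ, m]
    have h2 : IsAffineHom (ψZ.left ≫ (X ◁ j).left) := by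
      rw [← Over.comp_left, h1, Over.comp_left]; infer_instance
    have h3 : IsPullback (X ◁ j).left (snd X Z).left (snd X X).left j.left :=
      (isPullback_whiskerLeft X j).map (Over.forget _)
    have h4 : IsClosedImmersion (X ◁ j).left := MorphismProperty.of_isPullback (P := @IsClosedImmersion) h3.flip hj
    exact IsAffineHom.of_comp ψZ.left (X ◁ j).left
  have hξaff : IsAffineHom ξ := by
    have h1 : IsAffineHom (ξ ≫ X.hom) := inferInstance
    exact IsAffineHom.of_comp ξ X.hom
  have hWaff : IsAffine W := by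
    let h : W ⟶ (X ⊗ Z).left := pullback.fst m.left ξ ≫ ψZ.left
    have hfa : IsAffineHom (pullback.fst m.left ξ) := MorphismProperty.pullback_fst (P := @IsAffineHom) _ _ hξaff
    have hh : IsAffineHom h := by
      change IsAffineHom (pullback.fst m.left ξ ≫ ψZ.left)
      infer_instance
    let O : (X ⊗ Z).left.Opens := (fst X Z).left ⁻¹ᵁ U ⊓ (snd X Z).left ⁻¹ᵁ V
    have hO : IsAffineOpen O := isAffineOpen_inf X.hom Z.hom hU hV
    have h1 : h ⁻¹ᵁ O = ⊤ := by
      rw [eq_top_iff]
      intro w _
      refine ⟨?_, ?_⟩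
      · change (fst X Z).left (h w) ∈ U
        rw [← Scheme.Hom.comp_apply, Category.assoc, ← Over.comp_left, lift_fst, Scheme.Hom.comp_apply, hWξ]
        exact hξU
      · change (snd X Z).left (h w) ∈ V
        rw [← Scheme.Hom.comp_apply, Category.assoc, ← Over.comp_left, lift_snd, Scheme.Hom.comp_apply]
        exact hWV w
    have h2 := hO.preimage h
    rw [h1] at h2
    have h3 : IsAffine (⊤ : W.Opens) := h2
    exact .of_isIso W.topIso.inv
  change IsFinite (pullback.snd m.left ξ)
  have h5 : IsAffineHom (pullback.snd m.left ξ) := inferInstanceAs (IsAffineHom (X := W) _)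
  have h6 : IsProper (pullback.snd m.left ξ) := inferInstance
  exact IsFinite.iff_isProper_and_isAffineHom.2 ⟨h6, h5⟩

end K397.MinSec
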