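import Groth.Agent.AlgGrp.K397.StrConn
import Groth.Agent.AlgGrp.K397.AVSub
import Groth.Agent.AlgGrp.K395.Act
import Groth.Agent.Sga3B.RedIdComp
import Groth.Agent.Sga3C.LocConn
import Groth.Agent.Sga3.H780.RigidProper
import Groth.Agent.Sga3.H780.AlmostCompl
import Groth.Agent.Sga3.H780.PointedProd
import Mathlib.AlgebraicGeometry.ZariskisMainTheorem

/-!
# Faithful actions of abelian varieties have finite stabilizers

`k` algebraically closed, `A` an abelian variety acting faithfully (on rational points) on a variety `X`. Then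
`(a, x) ↦ (a x, x)` is a finite morphism `A × X → X × X`.
-/

set_option autoImplicit false
universe u
open AlgebraicGeometry CategoryTheory Limits MonoidalCategory CartesianMonoidalCategory MonObj

namespace K397.OrbFin

open Groth.Agent Groth.Agent.Sga3.H780 Groth.Agent.Books.BorelOrb Groth.Agent.Books.AlgPts

variable {k : Type u} [Field k] [IsAlgClosed k]
  {A X : Over (Spec (CommRingCat.of k))} [GrpObj A] [IsProper A.hom]
  [LocallyOfFiniteType X.hom] [IsSeparated X.hom] [IsIntegral X.left]

omit [IsAlgClosed k] [IsProper A.hom] in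
/-- A connected smooth proper subgroup fixing a rational point acts trivially. -/
theorem trivial_of_fix (a : AlgGrp.Action A X) (B : Over (Spec (CommRingCat.of k))) [GrpObj B]
    [Smooth B.hom] [IsProper B.hom] [ConnectedSpace B.left] (i : B ⟶ A)
    (o : 𝟙_ (Over (Spec (CommRingCat.of k))) ⟶ X) [IsMonHom i]
    (ho : sm a i (toUnit B ≫ o) = toUnit B ≫ o) {T : Over (Spec (CommRingCat.of k))} (b : T ⟶ B)
    (x : T ⟶ X) : sm a (b ≫ i) x = x := by
  have hBg := Pointed.geometricallyIntegral B
  have hI : IsIntegral (B ⊗ X).left := AVSub.isIntegral_tensor B X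
  let ψ : B ⊗ X ⟶ X := sm a (fst B X ≫ i) (snd B X)
  have hψ : ∀ {T : Over (Spec (CommRingCat.of k))} (b : T ⟶ B) (x : T ⟶ X),
      lift b x ≫ ψ = sm a (b ≫ i) x := by
    intro T b x
    rw [comp_sm, ← Category.assoc, lift_fst, lift_snd]
  have h1 := RigidProper.rigid B X X ψ η[B] o o (by
    rw [hψ, Category.id_comp, ho])
  have h2 : ψ = snd B X := by
    rw [h1, hψ, Category.assoc, IsMonHom.one_hom, ← Hom.one_def, one_sm]
  rw [← hψ, h2, lift_snd]

/-- The stabilizer of a rational point: its unit section is open. -/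
theorem exists_stab_isOpen (a : AlgGrp.Action A X)
    (hfaith : ∀ g : 𝟙_ (Over (Spec (CommRingCat.of k))) ⟶ A, lift (toUnit X ≫ g) (𝟙 X) ≫ a.act = 𝟙 X → g = η[A])
    (o : 𝟙_ (Over (Spec (CommRingCat.of k))) ⟶ X) :
    ∃ (N : Over (Spec (CommRingCat.of k))) (_ : GrpObj N) (i : N ⟶ A), IsMonHom i ∧
      IsClosedImmersion i.left ∧
      (∀ {T : Over (Spec (CommRingCat.of k))} (g : T ⟶ A), (∃ n : T ⟶ N, n ≫ i = g) ↔
        sm a g (toUnit T ≫ o) = toUnit T ≫ o) ∧ IsOpen ({pt η[N]} : Set N.left) := by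
  obtain ⟨N, _, i, hi1, hi2, hi3⟩ := StrConn.exists_stab a o
  have hi3' : ∀ {T : Over (Spec (CommRingCat.of k))} (g : T ⟶ A), (∃ n : T ⟶ N, n ≫ i = g) ↔
        sm a g (toUnit T ≫ o) = toUnit T ≫ o := by
    intro T g
    rw [hi3, comp_orbitMap]
  refine ⟨N, inferInstance, i, hi1, hi2, hi3', ?_⟩
  have hNft : LocallyOfFiniteType N.hom := by rw [← Over.w i]; infer_instance
  obtain ⟨B, _, b, hb1, hb2, hb3, hb4, hb5⟩ := Sga3B.RedIdComp.exists_redIdComp N
  have hBp : IsProper B.hom := by
    rw [← Over.w (b ≫ i), Over.comp_left]; infer_instance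
  have hfix : sm a (b ≫ i) (toUnit B ≫ o) = toUnit B ≫ o := (hi3' _).1 ⟨b, rfl⟩
  have hmono : Mono (b ≫ i) := by
    have : Mono (b ≫ i).left := by rw [Over.comp_left]; infer_instance
    exact Over.mono_of_mono_left _
  -- the rational points of `B` are trivial
  have h1 : ∀ g : 𝟙_ (Over (Spec (CommRingCat.of k))) ⟶ B, g = η[B] := by
    intro g
    rw [← cancel_mono (b ≫ i), IsMonHom.one_hom]
    apply hfaith
    have := trivial_of_fix a B (b ≫ i) o hfix (toUnit X ≫ g) (𝟙 X)
    rw [Category.assoc] at this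
    exact this
  have h2 : ∀ z : B.left, z = pt η[B] := by
    have hjac := LocallyOfFiniteType.jacobsonSpace B.hom
    intro z
    by_contra hz
    obtain ⟨x, hx⟩ := exists_pt_mem (X := B) (U := {pt η[B]}ᶜ) ⟨z, hz⟩
      (isClosed_pt η[B]).isOpen_compl.isLocallyClosed
    exact hx (by rw [h1 x]; rfl)
  have h3 : connectedComponent (pt η[N]) = {pt η[N]} := by
    rw [← hb5]
    ext z
    constructor
    · rintro ⟨y, rfl⟩
      rw [h2 y, ← pt_comp, IsMonHom.one_hom]
      rfl
    · rintro rfl
      exact ⟨pt η[B], by rw [← pt_comp, IsMonHom.one_hom]⟩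
  have hloc : IsLocallyNoetherian N.left := LocallyOfFiniteType.isLocallyNoetherian N.hom
  have hlc := Sga3C.LocConn.locallyConnectedSpace_of_isLocallyNoetherian N.left
  rw [← h3]
  exact isOpen_connectedComponent

/-- `(a, x) ↦ (a x, x)` -/
noncomputable abbrev psi (a : AlgGrp.Action A X) : A ⊗ X ⟶ X ⊗ X := lift a.act (snd A X)

omit [IsAlgClosed k] [IsProper A.hom] [LocallyOfFiniteType X.hom] [IsSeparated X.hom] [IsIntegral X.left] in
/-- The fibre of `psi` through a rational point. -/
theorem isPullback_psi (a : AlgGrp.Action A X) (g : 𝟙_ (Over (Spec (CommRingCat.of k))) ⟶ A)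
    (o : 𝟙_ (Over (Spec (CommRingCat.of k))) ⟶ X) (N : Over (Spec (CommRingCat.of k))) (i : N ⟶ A) [Mono i]
    (hi : ∀ {T : Over (Spec (CommRingCat.of k))} (g : T ⟶ A), (∃ n : T ⟶ N, n ≫ i = g) ↔
        sm a g (toUnit T ≫ o) = toUnit T ≫ o) :
    IsPullback (lift ((toUnit N ≫ g) * i) (toUnit N ≫ o)) (toUnit N) (psi a) (lift (sm a g o) o) := by
  have hw : ∀ {T : Over (Spec (CommRingCat.of k))} (b : T ⟶ A) (x : T ⟶ X), lift b x ≫ psi a = lift (sm a b x) x := by
    intro T b x
    rw [comp_lift, lift_snd]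
    rfl
  have hcomm : lift ((toUnit N ≫ g) * i) (toUnit N ≫ o) ≫ psi a = toUnit N ≫ lift (sm a g o) o := by
    rw [hw, comp_lift, comp_sm, mul_sm, (hi i).1 ⟨𝟙 N, Category.id_comp i⟩]
  have key : ∀ {T : Over (Spec (CommRingCat.of k))} (z : T ⟶ A ⊗ X) (_ : z ≫ psi a = toUnit T ≫ lift (sm a g o) o),
      z ≫ snd A X = toUnit T ≫ o ∧ ∃ n : T ⟶ N, n ≫ i = (toUnit T ≫ g)⁻¹ * (z ≫ fst A X) := by
    intro T z h1
    have h2 : z = lift (z ≫ fst A X) (z ≫ snd A X) := (lift_comp_fst_snd z).symm
    rw [h2, hw] at h1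
    have h3 := congr($h1 ≫ snd X X)
    have h4 := congr($h1 ≫ fst X X)
    rw [lift_snd, Category.assoc, lift_snd] at h3
    rw [lift_fst, Category.assoc, lift_fst] at h4
    refine ⟨h3, (hi _).2 ?_⟩
    rw [mul_sm, ← h3, h4, comp_sm, h3, ← mul_sm, inv_mul_cancel, one_sm]
  refine ⟨⟨hcomm⟩, ⟨PullbackCone.IsLimit.mk hcomm (fun s => (key s.fst (by
    rw [s.condition, toUnit_unique s.snd (toUnit _)])).2.choose) ?_ ?_ ?_⟩⟩
  · intro s
    have h0 : s.fst ≫ psi a = toUnit _ ≫ lift (sm a g o) o := by
      rw [s.condition, toUnit_unique s.snd (toUnit _)]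
    have h1 := (key s.fst h0).2.choose_spec
    have h2 := (key s.fst h0).1
    rw [comp_lift, MonObj.comp_mul, h1, ← Category.assoc, ← Category.assoc, toUnit_unique (_ ≫ toUnit N) (toUnit _),
      mul_inv_cancel_left, ← h2]
    exact lift_comp_fst_snd _
  · intro s
    exact toUnit_unique _ _
  · intro s m hm1 hm2
    have h0 : s.fst ≫ psi a = toUnit _ ≫ lift (sm a g o) o := by
      rw [s.condition, toUnit_unique s.snd (toUnit _)]
    have h1 := (key s.fst h0).2.choose_spec
    rw [← cancel_mono i]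
    refine Eq.trans ?_ h1.symm
    rw [← hm1, Category.assoc, lift_fst, MonObj.comp_mul, ← Category.assoc, toUnit_unique (_ ≫ toUnit N) (toUnit _),
      inv_mul_cancel_left]

/-- `psi` is finite. -/
theorem isFinite_psi (a : AlgGrp.Action A X)
    (hfaith : ∀ g : 𝟙_ (Over (Spec (CommRingCat.of k))) ⟶ A, lift (toUnit X ≫ g) (𝟙 X) ≫ a.act = 𝟙 X → g = η[A]) :
    IsFinite (psi a).left := by
  have hsnd : IsProper (snd A X).left := K395.Act.snd_mem @IsProper A X inferInstance
  have hsep : IsSeparated (snd X X).left := K395.Act.snd_mem @IsSeparated X X inferInstance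
  have hprop : IsProper (psi a).left := by
    have h1 : IsProper ((psi a).left ≫ (snd X X).left) := by
      rw [← Over.comp_left, lift_snd]
      exact hsnd
    exact IsProper.of_comp (psi a).left (snd X X).left
  have hft : LocallyOfFiniteType (A ⊗ X).hom := by
    rw [← Over.w (snd A X)]; infer_instance
  have hjac := LocallyOfFiniteType.jacobsonSpace (A ⊗ X).hom
  have hlqf : LocallyQuasiFinite (psi a).left := by
    rw [← Scheme.Hom.quasiFiniteLocus_eq_top_iff]
    by_contra hne
    have hne' : ((psi a).left.quasiFiniteLocus : Set (A ⊗ X).left)ᶜ.Nonempty := by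
      rw [Set.nonempty_compl]
      intro h
      exact hne (TopologicalSpace.Opens.ext h)
    obtain ⟨z, hz⟩ := exists_pt_mem (X := A ⊗ X) hne'
      (psi a).left.quasiFiniteLocus.isOpen.isClosed_compl.isLocallyClosed
    apply hz
    change (psi a).left.QuasiFiniteAt (pt z)
    rw [Scheme.Hom.quasiFiniteAt_iff_isOpen_singleton_asFiber]
    let g := z ≫ fst A X
    let o := z ≫ snd A X
    have hzg : z = lift g o := (lift_comp_fst_snd z).symm
    obtain ⟨N, _, i, hi1, hi2, hi3, hi4⟩ := exists_stab_isOpen a hfaith o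
    have hmono : Mono i := Over.mono_of_mono_left i
    have hpb := isPullback_psi a g o N i hi3
    let j : N ⟶ A ⊗ X := lift ((toUnit N ≫ g) * i) (toUnit N ≫ o)
    let y : 𝟙_ (Over (Spec (CommRingCat.of k))) ⟶ X ⊗ X := lift (sm a g o) o
    have hpb' : IsPullback j.left (toUnit N).left (psi a).left y.left := hpb.map (Over.forget _)
    have hXX : IsSeparated (X ⊗ X).hom := by
      rw [← Over.w (snd X X)]; infer_instance
    have hy : IsClosedImmersion y.left := by
      have h1 : IsClosedImmersion (y.left ≫ (X ⊗ X).hom) := by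
        rw [Over.w]
        exact inferInstanceAs (IsClosedImmersion (𝟙 _))
      exact IsClosedImmersion.of_comp y.left (X ⊗ X).hom
    have hj : IsClosedImmersion j.left := MorphismProperty.of_isPullback (P := @IsClosedImmersion) hpb'.flip hy
    have hηj : η[N] ≫ j = z := by
      have h7 : η[N] ≫ i = 1 := by
        rw [IsMonHom.one_hom, Hom.one_def, toUnit_unique (toUnit _) (𝟙 _), Category.id_comp]
      have h8 : ∀ {Y : Over (Spec (CommRingCat.of k))} (t : 𝟙_ (Over (Spec (CommRingCat.of k))) ⟶ Y),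
          η[N] ≫ toUnit N ≫ t = t := by
        intro Y t
        rw [← Category.assoc, toUnit_unique (η[N] ≫ toUnit N) (𝟙 _), Category.id_comp]
      rw [hzg, comp_lift, MonObj.comp_mul, h7, _root_.mul_one, h8, h8]
    have hzy : (psi a).left (pt z) = pt y := by
      rw [← pt_comp]
      congr 1
      rw [hzg, comp_lift, lift_snd]
      rfl
    have hrange : ∀ w : (A ⊗ X).left, (psi a).left w = (psi a).left (pt z) → w ∈ Set.range j.left := by
      intro w hw
      obtain ⟨n, hn, -⟩ := Scheme.Pullback.exists_preimage_pullback (f := (psi a).left) (g := y.left) w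
        (IsLocalRing.closedPoint k) (by rw [hw, hzy]; rfl)
      refine ⟨hpb'.isoPullback.inv n, ?_⟩
      rw [← Scheme.Hom.comp_apply, IsPullback.isoPullback_inv_fst]
      exact hn
    have hrange' : ∀ n : N.left, (psi a).left (j.left n) = (psi a).left (pt z) := by
      intro n
      rw [← Scheme.Hom.comp_apply, hpb'.w, Scheme.Hom.comp_apply, hzy]
      congr 1
      exact Subsingleton.elim (α := PrimeSpectrum k) _ _
    let F : Set (A ⊗ X).left := (psi a).left ⁻¹' {(psi a).left (pt z)}
    let j' : N.left → F := fun n => ⟨j.left n, hrange' n⟩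
    have hj' : Topology.IsInducing j' := by
      refine (Topology.IsInducing.subtypeVal.of_comp_iff).1 ?_
      exact j.left.isClosedEmbedding.isInducing
    have hj'' : IsOpenMap j' := by
      refine hj'.isOpenMap ?_
      have : Set.range j' = Set.univ := by
        rw [Set.eq_univ_iff_forall]
        rintro ⟨w, hw⟩
        obtain ⟨n, hn⟩ := hrange w hw
        exact ⟨n, Subtype.ext hn⟩
      rw [this]
      exact isOpen_univ
    have h5 := hj'' _ hi4
    rw [Set.image_singleton] at h5
    rw [← ((psi a).left.fiberHomeo ((psi a).left (pt z))).isOpen_image, Set.image_singleton]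
    have h6 : j' (pt η[N]) = ((psi a).left.fiberHomeo ((psi a).left (pt z))) ((psi a).left.asFiber (pt z)) := by
      refine Subtype.ext ?_
      change j.left (pt η[N]) = _
      rw [← pt_comp, hηj]
      exact ((psi a).left.fiberι_asFiber (pt z)).symm
    rw [← h6]
    exact h5
  exact IsFinite.of_isProper_of_locallyQuasiFinite _

end K397.OrbFin
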