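import Groth.Agent.AlgGrp.K401.RigidAA
import Groth.Agent.AlgGrp.K413.EqLocus
import Groth.Agent.AlgGrp.K414.AntiAffBC
import Groth.Agent.Books.AlgPtsGrp
import Mathlib.AlgebraicGeometry.SpreadingOut

/-!
# Rigidity with an anti-affine factor over a connected base

`k` algebraically closed, `X` with `O(X) = k`, `Y` connected of finite type (not nec. reduced), `Z` separated: a
morphism `f : X ⊗ Y ⟶ Z` which is constant on `X × {y₀}` factors through the second projection.

* `exists_section_near`: a closed immersion into a locally Noetherian scheme through which `Spec 𝒪_{Y,e} ⟶ Y` factors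
  has a section near `e`.
* `isIso_of_closedPoints`: a closed immersion `j` into a connected scheme `Y` with non-empty source which has a
  section near each closed point of its image is an isomorphism.
* `eq_res`: rigidity.
-/

set_option autoImplicit false

open CategoryTheory Limits MonoidalCategory CartesianMonoidalCategory MonObj AlgebraicGeometry
open Groth.Agent.Books.AntiAffine

universe u

namespace K397.Rigid

theorem exists_section_near {T Y : Scheme.{u}} [IsLocallyNoetherian Y] (j : T ⟶ Y) [LocallyOfFiniteType j] (e : Y)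
    (h : ∃ s : Spec (Y.presheaf.stalk e) ⟶ T, s ≫ j = Y.fromSpecStalk e) :
    ∃ (U : Y.Opens) (_ : e ∈ U) (f : U.toScheme ⟶ T), f ≫ j = U.ι := by
  obtain ⟨s, hs⟩ := h
  obtain ⟨U, hU, f, -, hf⟩ := spread_out_of_isGermInjective' (𝟙 Y) j s (by rw [hs, Category.comp_id])
  exact ⟨U, hU, f, by rw [hf, Category.comp_id]⟩

/-- A monomorphism with local sections is an isomorphism. -/
theorem isIso_of_local_sections {T Y : Scheme.{u}} (j : T ⟶ Y) [Mono j]
    (h : ∀ e : Y, ∃ (U : Y.Opens) (_ : e ∈ U) (f : U.toScheme ⟶ T), f ≫ j = U.ι) : IsIso j := by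
  choose U hU f hf using h
  have hsup : iSup U = ⊤ := by
    rw [eq_top_iff]
    intro x _
    exact TopologicalSpace.Opens.mem_iSup.mpr ⟨x, hU x⟩
  refine (IsZariskiLocalAtTarget.iff_of_iSup_eq_top (P := MorphismProperty.isomorphisms Scheme.{u}) U hsup).mpr ?_
  intro e
  change IsIso (j ∣_ U e)
  have hpb := isPullback_morphismRestrict j (U e)
  have hm : Mono (j ∣_ U e) := by
    have : Mono ((j ∣_ U e) ≫ (U e).ι) := by
      rw [hpb.w]
      infer_instance
    exact mono_of_mono _ (U e).ι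
  have hs : hpb.lift (𝟙 _) (f e) (by rw [hf, Category.id_comp]) ≫ (j ∣_ U e) = 𝟙 _ := hpb.lift_fst _ _ _
  have : IsSplitEpi (j ∣_ U e) := ⟨⟨_, hs⟩⟩
  exact isIso_of_mono_of_isSplitEpi _

/-- A closed immersion into a connected Jacobson scheme which has a section near every closed point of its image is an
isomorphism. -/
theorem isIso_of_closedPoints {T Y : Scheme.{u}} (j : T ⟶ Y) [IsClosedImmersion j] [JacobsonSpace Y]
    [ConnectedSpace Y] [Nonempty T]
    (h : ∀ t : T, IsClosed {j t} → ∃ (U : Y.Opens) (_ : j t ∈ U) (f : U.toScheme ⟶ T), f ≫ j = U.ι) : IsIso j := by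
  let V : Set Y := {e | ∃ (U : Y.Opens) (_ : e ∈ U) (f : U.toScheme ⟶ T), f ≫ j = U.ι}
  have hVo : IsOpen V := by
    rw [isOpen_iff_forall_mem_open]
    rintro x ⟨U, hx, f, hf⟩
    exact ⟨U, fun y hy => ⟨U, hy, f, hf⟩, U.2, hx⟩
  have hV1 : V ⊆ Set.range j := by
    rintro x ⟨U, hx, f, hf⟩
    refine ⟨f ⟨x, hx⟩, ?_⟩
    rw [← Scheme.Hom.comp_apply, hf]
    rfl
  have hV2 : Set.range j ⊆ V := by
    by_contra hc
    rw [Set.not_subset] at hc
    obtain ⟨y, hy1, hy2⟩ := hc
    have hcl : IsClosed (Set.range j ∩ Vᶜ) := j.isClosedEmbedding.isClosed_range.inter hVo.isClosed_compl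
    obtain ⟨x, hx, hx'⟩ := nonempty_inter_closedPoints (X := Y) (Z := Set.range j ∩ Vᶜ) ⟨y, hy1, hy2⟩
      hcl.isLocallyClosed
    obtain ⟨⟨t, rfl⟩, hxV⟩ := hx
    exact hxV (h t hx')
  have hVr : V = Set.range j := hV1.antisymm hV2
  have hclopen : IsClopen V := ⟨by rw [hVr]; exact j.isClosedEmbedding.isClosed_range, hVo⟩
  have huniv : V = Set.univ := hclopen.eq_univ (by
    rw [hVr]
    exact Set.range_nonempty _)
  exact isIso_of_local_sections j fun e => by
    have : e ∈ V := by rw [huniv]; trivial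
    exact this

variable {K : Type u} [Field K]

/-- The equality locus contains a neighbourhood of each rational point over which `f` is constant. -/
theorem exists_section_of_const {X Y Z T : Over (Spec (.of K))} [CompactSpace X.left] [QuasiSeparatedSpace X.left]
    [IsIso X.hom.appTop] [IsLocallyNoetherian Y.left] [IsSeparated Z.hom]
    (x₀ : 𝟙_ (Over (Spec (.of K))) ⟶ X) (f : X ⊗ Y ⟶ Z) (j : T ⟶ Y) [IsClosedImmersion j.left]
    (hj : ∀ (W : Over (Spec (.of K))) (y : W ⟶ Y),
      (∃ z : W ⟶ T, z ≫ j = y) ↔ (X ◁ y) ≫ f = (X ◁ y) ≫ K401.RigidAA.res x₀ f)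
    (y : 𝟙_ (Over (Spec (.of K))) ⟶ Y) (z₀ : 𝟙_ (Over (Spec (.of K))) ⟶ Z)
    (hy : (X ◁ y) ≫ f = toUnit _ ≫ z₀) :
    ∃ (U : Y.left.Opens) (_ : y.left (IsLocalRing.closedPoint K) ∈ U) (g : U.toScheme ⟶ T.left),
      g ≫ j.left = U.ι := by
  apply exists_section_near
  have h1 : (X ◁ locι Y (y.left (IsLocalRing.closedPoint K))) ≫ f =
      (X ◁ locι Y (y.left (IsLocalRing.closedPoint K))) ≫ K401.RigidAA.res x₀ f := by
    apply K401.RigidAA.ext_of_inf
    intro n
    obtain ⟨i, hi, hi'⟩ := K401.RigidAA.exists_inf_point Y y n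
    have := K401.RigidAA.rigid_affine x₀ f (inf Y (y.left (IsLocalRing.closedPoint K)) n) (𝟙_ _)
      (infι Y _ n ≫ locι Y _) i z₀ (by rw [hi', hy])
    simpa only [whiskerLeft_comp, Category.assoc] using this
  obtain ⟨s, hs⟩ := (hj _ _).mpr h1
  exact ⟨s.left, congr(($hs).left)⟩

/-- **Rigidity** with an anti-affine factor and a connected base of finite type. -/
theorem eq_res [IsAlgClosed K] {X Y Z : Over (Spec (.of K))} [CompactSpace X.left] [QuasiSeparatedSpace X.left]
    [IsIso X.hom.appTop] [LocallyOfFiniteType Y.hom] [ConnectedSpace Y.left] [IsSeparated Z.hom]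
    (x₀ : 𝟙_ (Over (Spec (.of K))) ⟶ X) (y₀ : 𝟙_ (Over (Spec (.of K))) ⟶ Y) (f : X ⊗ Y ⟶ Z)
    (z₀ : 𝟙_ (Over (Spec (.of K))) ⟶ Z)
    (hf : (X ◁ y₀) ≫ f = toUnit _ ≫ z₀) : f = K401.RigidAA.res x₀ f := by
  obtain ⟨T, j, hj, hT⟩ := K413.EqLocus.exists_closed f (K401.RigidAA.res x₀ f)
  have hN : IsLocallyNoetherian Y.left := LocallyOfFiniteType.isLocallyNoetherian Y.hom
  have hJ : JacobsonSpace Y.left := LocallyOfFiniteType.jacobsonSpace Y.hom
  -- at every rational point, being in `T` means being constant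
  have hres : ∀ (W : Over (Spec (.of K))) (y : W ⟶ Y), (X ◁ y) ≫ K401.RigidAA.res x₀ f =
      snd X W ≫ lift (toUnit W ≫ x₀) y ≫ f := by
    intro W y
    rw [K401.RigidAA.res]
    simp only [← Category.assoc]
    congr 1
    apply CartesianMonoidalCategory.hom_ext
    · simp only [whiskerLeft_snd, Category.assoc, lift_fst]
      rw [← Category.assoc, ← Category.assoc, ← Category.assoc]
      congr 1
      exact toUnit_unique _ _
    · simp
  have hconst : ∀ y : 𝟙_ (Over (Spec (.of K))) ⟶ Y, (∃ z : 𝟙_ (Over (Spec (.of K))) ⟶ T, z ≫ j = y) →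
      ∃ z₁ : 𝟙_ (Over (Spec (.of K))) ⟶ Z, (X ◁ y) ≫ f = toUnit _ ≫ z₁ := by
    intro y hy
    refine ⟨lift (toUnit _ ≫ x₀) y ≫ f, ?_⟩
    rw [(hT _ y).mp hy, hres, toUnit_unique (snd X (𝟙_ (Over (Spec (.of K))))) (toUnit _)]
  have hconst0 : ∀ (y : 𝟙_ (Over (Spec (.of K))) ⟶ Y) (z₁ : 𝟙_ (Over (Spec (.of K))) ⟶ Z),
      (X ◁ y) ≫ f = toUnit _ ≫ z₁ → ∃ z : 𝟙_ (Over (Spec (.of K))) ⟶ T, z ≫ j = y := by
    intro y z₁ hy
    rw [hT, hres, hy]
    have h1 : lift (toUnit _ ≫ x₀) y ≫ f = z₁ := by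
      have h2 : lift (toUnit _ ≫ x₀) y = lift (toUnit _ ≫ x₀) (𝟙 _) ≫ (X ◁ y) := by
        apply CartesianMonoidalCategory.hom_ext <;> simp
      rw [h2, Category.assoc, hy, ← Category.assoc, toUnit_unique (lift _ _ ≫ toUnit _) (𝟙 _), Category.id_comp]
    rw [h1, toUnit_unique (snd X (𝟙_ (Over (Spec (.of K))))) (toUnit _)]
  obtain ⟨t₀, -⟩ := hconst0 y₀ z₀ hf
  have hne : Nonempty T.left := ⟨t₀.left (IsLocalRing.closedPoint K)⟩
  have hTft : LocallyOfFiniteType T.hom := by rw [← Over.w j]; infer_instance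
  have hiso : IsIso j.left := by
    refine isIso_of_closedPoints j.left fun t ht => ?_
    have htc : IsClosed {t} := by
      have : j.left ⁻¹' {j.left t} = {t} := by
        ext s
        simp only [Set.mem_preimage, Set.mem_singleton_iff]
        exact j.left.isClosedEmbedding.injective.eq_iff
      rw [← this]
      exact ht.preimage j.left.continuous
    obtain ⟨τ, hτ⟩ := Groth.Agent.Books.AlgPts.exists_pt t htc
    obtain ⟨z₁, hz₁⟩ := hconst (τ ≫ j) ⟨τ, rfl⟩
    have h2 := exists_section_of_const x₀ f j hT (τ ≫ j) z₁ hz₁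
    have h3 : (τ ≫ j).left (IsLocalRing.closedPoint K) = j.left t := by
      rw [Over.comp_left, Scheme.Hom.comp_apply]
      congr 1
    rw [h3] at h2
    exact h2
  have h5 : IsIso j := by
    have : IsIso ((Over.forget _).map j) := hiso
    exact isIso_of_reflects_iso j (Over.forget _)
  have h6 := (hT Y (𝟙 Y)).mp ⟨inv j, by simp⟩
  simpa using h6

end K397.Rigid
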